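import Cfsg.Agent.Chev.Subfield.Check
import Cfsg.Agent.Chev.TwistedCard

/-!
Checks on the tables used for the subfield subgroups of twisted groups.
-/

set_option autoImplicit false

namespace CfsgLib.Chev.SubfieldTw

open Cfsg.Lie Tab SubfieldMax

/-- The permutation of the roots given by a root map. -/
def piN (m : List (ℕ × ℤ × ℕ)) (r : ℕ) : ℕ := (mapAt m r).1

/-- The orbit of a root. -/
def orbR (m : List (ℕ × ℤ × ℕ)) (r : ℕ) : List ℕ := [r, piN m r, piN m (piN m r)]

/-- A root fixed by the map. -/
def fixR (m : List (ℕ × ℤ × ℕ)) (r : ℕ) : Bool := Nat.beq (piN m r) r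

/-- The certificate of a twisted type. -/
structure Data where
  /-- the fundamental root in the radical -/
  b : ℕ
  /-- its complement in the highest root -/
  bb : ℕ
  /-- the radical without the highest root in orbits, with complements and coefficients -/
  qo : List (List (ℕ × ℕ × ℤ))
  /-- the index of a complement orthogonal to `b` -/
  aa : ℕ
  /-- representatives of the short orbits of complements by falling height -/
  ch : List ℕ
  /-- the orbit acting in each step of the chain -/
  stp : List (List ℕ)
  /-- the index of the fundamental root mapped to the highest root -/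
  jr : ℕ
  /-- the word mapping it to the highest root -/
  lr : List ℕ

/-- The map is an isometry of height with signs trivial on fixed roots. -/
def chkMapTw {D : ChevalleyDatum} (T : Tab D) (m : List (ℕ × ℤ × ℕ)) : Bool :=
  fixR m (top D) && allBelow (fun r => Nat.blt (piN m r) D.nroots &&
    Nat.beq (mapAt m r).2.2 1 && decide ((mapAt m r).2.1.natAbs = 1) &&
    (!(fixR m r) || decide ((mapAt m r).2.1 = 1)) &&
    decide (T.ht (piN m r) = T.ht r) &&
    (!(inQ T r) || inQ T (piN m r))) D.nroots

/-- The radical is normal in the positive roots. -/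
def chkNormal {D : ChevalleyDatum} (T : Tab D) : Bool :=
  allBelow (fun r => !(Nat.ble D.nroots (Nat.mul 2 r)) || allBelow (fun s => !(inQ T s) ||
    ((T.commT r s).all (fun c => inQ T c.1) && (T.commT s r).all (fun c => inQ T c.1))) D.nroots)
    D.nroots

/-- The pairing of the radical. -/
def chkQo {D : ChevalleyDatum} (T : Tab D) (m : List (ℕ × ℤ × ℕ)) (qo : List (List (ℕ × ℕ × ℤ))) :
    Bool :=
  decide (qo.flatten.map fun e => e.1).Nodup &&
  qo.all (fun O => decide (O.map fun e => e.1).Nodup &&
    O.all (fun e => inQ T e.1 && inQ T e.2.1 && !(Nat.beq e.1 (top D)) && !(Nat.beq e.2.1 (top D)) &&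
      !(Nat.beq e.1 e.2.1) && decide (e.2.2.natAbs = 1) &&
      decide (T.commT e.2.1 e.1 = [(top D, e.2.2, 1, 1)]) &&
      allBelow (fun s => !(inQ T s) || Nat.beq s e.1 || (T.commT e.2.1 s).isEmpty) D.nroots &&
      O.any (fun e' => Nat.beq e'.1 (piN m e.1) && Nat.beq e'.2.1 (piN m e.2.1)) &&
      O.all (fun e' => Nat.beq e'.1 e.1 || (T.commT e.1 e'.1).isEmpty))) &&
  allBelow (fun s => !(inQ T s) || Nat.beq s (top D) ||
    qo.any fun O => O.any fun e => Nat.beq e.1 s) D.nroots

/-- The facts about the fundamental root of the radical. -/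
def chkB {D : ChevalleyDatum} (T : Tab D) (m : List (ℕ × ℤ × ℕ)) (C : Data) : Bool :=
  fixR m C.b && fixR m C.bb && inQ T C.b && inQ T C.bb && !(Nat.beq C.b (top D)) &&
  !(Nat.beq C.bb (top D)) && inQ T C.aa && !(Nat.beq C.aa (top D)) &&
  C.qo.any (fun O => O.any fun e => Nat.beq e.1 C.b && Nat.beq e.2.1 C.bb) &&
  allBelow (fun s => !(inQ T s) || Nat.beq s C.b ||
    (T.commT (negR D C.b) s).all (fun c => Nat.blt c.1 D.nroots && Nat.ble D.nroots (Nat.mul 2 c.1)))
    D.nroots &&
  (match T.commT C.bb (negR D (top D)) with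
    | [(c, e, 1, 1)] => Nat.beq c (negR D C.b) && decide (e.natAbs = 1)
    | _ => false) &&
  (match T.commT (top D) (negR D C.b) with
    | [(c, e, 1, 1)] => Nat.beq c C.bb && decide (e.natAbs = 1)
    | _ => false) &&
  (match T.commT C.bb C.b with
    | [(c, e, 1, 1)] => Nat.beq c (top D) && decide (e.natAbs = 1)
    | _ => false) &&
  !(Nat.beq C.bb (negR D (top D))) && !(Nat.beq C.bb (negR D C.b)) &&
  !(Nat.beq (negR D C.b) (top D)) &&
  !(Nat.beq C.aa C.b) && !(Nat.beq C.aa C.bb) &&
  !(Nat.beq C.aa (negR D C.b)) && (T.commT C.aa (negR D C.b)).isEmpty &&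
  (T.commT C.aa C.b).isEmpty && (T.commT C.bb (negR D C.b)).isEmpty &&
  !(Nat.beq (negR D (top D)) (negR D C.b)) && !(Nat.beq (negR D (top D)) (negR D (negR D C.b))) &&
  (T.commT (negR D C.b) (negR D (top D))).isEmpty

/-- The reflection in the highest root, as a word, makes the radical negative. -/
def chkR {D : ChevalleyDatum} (T : Tab D) (C : Data) : Bool :=
  Nat.blt C.jr D.rank && C.lr.all (fun i => Nat.blt i D.rank) &&
  Nat.beq (T.wordT C.lr (D.simple C.jr)) (top D) &&
  allBelow (fun s => !(inQ T s) ||
    Nat.blt (Nat.mul 2 (T.wordT (C.lr ++ C.jr :: C.lr.reverse) s)) D.nroots) D.nroots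

/-- A root of the radical is fixed or in the orbit of one of the representatives. -/
def inFixOrb (m : List (ℕ × ℤ × ℕ)) (as : List ℕ) (a : ℕ) : Bool :=
  fixR m a || as.any fun a' => memB a (orbR m a')

/-- The coefficients after conjugation by a product of root elements. -/
def expand {D : ChevalleyDatum} (T : Tab D) : List ℕ → ℕ → List (ℕ × ℤ)
  | [], _ => []
  | r :: rs, a => expand T rs a ++
    match T.commT a r with
    | c :: _ => (c.1, c.2.1) :: (expand T rs c.1).map fun p => (p.1, c.2.1 * p.2)
    | [] => []

/-- The conjugating roots are admissible at an index. -/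
def expandOK {D : ChevalleyDatum} (T : Tab D) : List ℕ → ℕ → Bool
  | [], _ => true
  | r :: rs, a => expandOK T rs a && inQ T a && !(Nat.beq a (top D)) && notQ T r &&
    match T.commT a r with
    | [(c, _, 1, 1)] => expandOK T rs c && inQ T c && !(Nat.beq c (top D)) &&
        (T.commT c r).isEmpty
    | [] => true
    | _ => false

/-- The roots of the fundamental orbit acting in a step. -/
def stepRoots (D : ChevalleyDatum) (J : List ℕ) : List ℕ := J.map D.simple

/-- The chain: all indices are reached and each step only uses earlier ones. -/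
def chkChain {D : ChevalleyDatum} (T : Tab D) (m : List (ℕ × ℤ × ℕ)) (C : Data) : Bool :=
  C.ch.all (fun a => inQ T a && !(Nat.beq a (top D))) &&
  allBelow (fun s => !(inQ T s) || Nat.beq s (top D) || inFixOrb m C.ch s) D.nroots &&
  decide (C.stp.length + 1 = C.ch.length) &&
  allBelow (fun j =>
    expandOK T (stepRoots D (C.stp.getD j [])) (C.ch.getD (j + 1) 0) &&
    allBelow (fun i => expandOK T (stepRoots D (C.stp.getD j [])) (C.ch.getD i 0) &&
      (expand T (stepRoots D (C.stp.getD j [])) (C.ch.getD i 0)).all fun p =>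
        inFixOrb m (C.ch.take j) p.1) (j + 1)) C.stp.length

/-- The last orbit of the radical has no index in the earlier part of the chain. -/
def chkLast (m : List (ℕ × ℤ × ℕ)) (C : Data) : Bool :=
  match C.qo.reverse with
  | _ :: rest => rest.all fun O => O.all fun e => inFixOrb m (C.ch.take C.stp.length) e.2.1
  | [] => false

/-- The steps of the chain are orbits. -/
def chkStp (orbs : List (List ℕ)) (C : Data) : Bool :=
  allBelow (fun j => (List.range orbs.length).any fun J =>
    decide (orbs.getD J [] = C.stp.getD j [])) C.stp.length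

/-- A twisted word preserves the highest root and the radical. -/
def chkLevi {D : ChevalleyDatum} (T : Tab D) (orbs : List (List ℕ)) (L : List ℕ) : Bool :=
  L.all (fun J => Nat.blt J orbs.length) && Nat.beq (T.wordT (flatW orbs L) (top D)) (top D) &&
  allBelow (fun s => !(inQ T s) || inQ T (T.wordT (flatW orbs L) s)) D.nroots

/-- Twisted words joining every fixed root with the highest and the lowest root. -/
def chkLongs {D : ChevalleyDatum} (T : Tab D) (m : List (ℕ × ℤ × ℕ)) (orbs : List (List ℕ))
    (lg : List (ℕ × List ℕ × List ℕ)) : Bool :=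
  lg.all (fun e => e.2.1.all (fun J => Nat.blt J orbs.length) &&
    e.2.2.all (fun J => Nat.blt J orbs.length) && Nat.blt e.1 D.nroots &&
    Nat.beq (T.wordT (flatW orbs e.2.1) (top D)) e.1 &&
    Nat.beq (T.wordT (flatW orbs e.2.2) e.1) (negR D (top D))) &&
  allBelow (fun r => !(fixR m r) || lg.any fun e => Nat.beq e.1 r) D.nroots

/-- Twisted words moving each index of the chain to an index orthogonal to `b`. -/
def chkMove {D : ChevalleyDatum} (T : Tab D) (m : List (ℕ × ℤ × ℕ)) (orbs : List (List ℕ))
    (C : Data) (lv : List (List ℕ)) : Bool :=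
  decide (lv.length = C.ch.length) && allBelow (fun k => chkLevi T orbs (lv.getD k []) &&
    memB (T.wordT (flatW orbs (lv.getD k [])) (C.ch.getD k 0)) (orbR m C.aa)) C.ch.length

/-- A twisted word maps the given roots to the fundamental roots of an orbit. -/
def chkPull {D : ChevalleyDatum} (T : Tab D) (orbs : List (List ℕ)) (J : ℕ) (L : List ℕ)
    (S : List ℕ) : Bool :=
  L.all (fun K => Nat.blt K orbs.length) && Nat.blt J orbs.length &&
  S.all (fun r => Nat.blt r D.nroots &&
    (orbs.getD J []).any fun i => Nat.beq (T.wordT (flatW orbs L) r) (D.simple i))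

/-- The image of a vector under a product of root elements with parameters `1`. -/
def applyX {D : ChevalleyDatum} (T : Tab D) (rs : List ℕ) (v : Vec) : Vec :=
  rs.foldr (fun r v => v ++ bindV (colX T r) v) v

/-- All intermediate vectors have valid codes. -/
def applyValid {D : ChevalleyDatum} (T : Tab D) : List ℕ → Vec → Bool
  | [], v => v.all fun p => Nat.blt p.1 (Tab.dim D)
  | r :: rs, v => Nat.blt r D.nroots && applyValid T rs v &&
      (applyX T (r :: rs) v).all fun p => Nat.blt p.1 (Tab.dim D)

/-- Dropping the coordinates at fixed roots. -/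
def dropFix (D : ChevalleyDatum) (m : List (ℕ × ℤ × ℕ)) (v : Vec) : Vec :=
  v.filter fun p => !(Nat.blt p.1 D.nroots && fixR m p.1)

/-- A product of root elements which is rational: an orbit or a fixed root. -/
def chkStage {D : ChevalleyDatum} (_T : Tab D) (m : List (ℕ × ℤ × ℕ)) (orbs : List (List ℕ))
    (rs : List ℕ) : Bool :=
  (match rs with
    | [r] => Nat.blt r D.nroots && fixR m r
    | _ => false) ||
  (List.range orbs.length).any fun J => decide ((orbs.getD J []).map D.simple = rs)

/-- Running the stages on a vector. -/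
def runStages {D : ChevalleyDatum} (T : Tab D) (m : List (ℕ × ℤ × ℕ)) :
    List (List ℕ) → Vec → Vec
  | [], v => v
  | rs :: st, v => runStages T m st (dropFix D m (applyX T rs v ++ v.map fun p => (p.1, -p.2)))

/-- The validity of the stages. -/
def stagesOK {D : ChevalleyDatum} (T : Tab D) (m : List (ℕ × ℤ × ℕ)) (orbs : List (List ℕ)) :
    List (List ℕ) → Vec → Bool
  | [], _ => true
  | rs :: st, v => chkStage T m orbs rs && applyValid T rs v &&
      stagesOK T m orbs st (dropFix D m (applyX T rs v ++ v.map fun p => (p.1, -p.2)))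

/-- A vector of one orbit and twisted words spreading it to all non-fixed positive roots. -/
def chkSpan {D : ChevalleyDatum} (T : Tab D) (m : List (ℕ × ℤ × ℕ)) (orbs : List (List ℕ))
    (start : ℕ) (st : List (List ℕ)) (O : List ℕ) (sw : List (ℕ × List ℕ × ℕ)) : Bool :=
  Nat.blt start D.nroots && fixR m start && stagesOK T m orbs st [(start, 1)] &&
  (let v := runStages T m st [(start, 1)]
   v.all (fun p => memB p.1 O || decide (coeff v p.1 = 0)) &&
   O.all (fun r => Nat.blt r D.nroots && decide ((coeff v r).natAbs = 1))) &&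
  sw.all (fun e => e.2.1.all (fun J => Nat.blt J orbs.length) && memB e.2.2 O &&
    Nat.beq (T.wordT (flatW orbs e.2.1) e.2.2) e.1 &&
    O.all fun r => decide (T.ht (T.wordT (flatW orbs e.2.1) r) = T.ht e.1)) &&
  allBelow (fun s => Nat.blt (Nat.mul 2 s) D.nroots || fixR m s ||
    sw.any fun e => Nat.beq e.1 s) D.nroots

end CfsgLib.Chev.SubfieldTw
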