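import Cfsg.Agent.Chev.SubfieldTw.Check
import Cfsg.Agent.Chev.Subfield.Frame
import Cfsg.Agent.Chev.TwistedA1

/-!
The linear coordinates on the radical of the highest root.
-/

set_option autoImplicit false
set_option linter.unusedSectionVars false

namespace CfsgLib.Chev

open Cfsg.Lie Matrix
open scoped MatrixGroups

namespace SubfieldTw

open Tab SubfieldMax

variable {D : ChevalleyDatum} {T : Tab D} (G : T.Good) {K : Type*} [Field K]

open scoped Classical in
/-- The coefficient of the highest root in the commutator with a root element. -/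
noncomputable def Cc (a : ℕ) (u : GL D.Idx K) : K :=
  if h : ∃ β : K, u * G.full.x a 1 * u⁻¹ = G.full.x a 1 * G.full.x (top D) β then h.choose else 0

include G

variable (F : Frame T)
include F

theorem cc_eq {a : ℕ} {u : GL D.Idx K} {β : K}
    (h : u * G.full.x a 1 * u⁻¹ = G.full.x a 1 * G.full.x (top D) β) : Cc G a u = β := by
  have hh : ∃ γ : K, u * G.full.x a 1 * u⁻¹ = G.full.x a 1 * G.full.x (top D) γ := ⟨β, h⟩
  rw [Cc, dif_pos hh]
  exact G.x_inj F.top_lt (mul_left_cancel (hh.choose_spec.symm.trans h))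

theorem cc_spec {a : ℕ} (ha : a ∈ qs T) {u : GL D.Idx K} (hu : u ∈ G.US K (qs T)) (t : K) :
    u * G.full.x a t * u⁻¹ = G.full.x a t * G.full.x (top D) (Cc G a u * t) := by
  obtain ⟨β, hβ⟩ := lin G F hu ha
  rw [hβ, cc_eq G F (by rw [hβ 1, mul_one])]

theorem qs_pos {s : ℕ} (hs : s ∈ qs T) : IsPos D s := F.closedQ.1 s hs

theorem qs_le_pos {u : GL D.Idx K} (hu : u ∈ G.US K (qs T)) : u ∈ G.US K {r | IsPos D r} :=
  G.US_mono (fun _ hr => F.closedQ.1 _ hr) hu

theorem top_comm' {u : GL D.Idx K} (hu : u ∈ G.US K {r | IsPos D r}) (t : K) :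
    u * G.full.x (top D) t * u⁻¹ = G.full.x (top D) t := by
  rw [(top_comm G F hu t).eq, mul_inv_cancel_right]

theorem cc_mul {a : ℕ} (ha : a ∈ qs T) {p q : GL D.Idx K} (hp : p ∈ G.US K (qs T))
    (hq : q ∈ G.US K (qs T)) : Cc G a (p * q) = Cc G a p + Cc G a q := by
  refine cc_eq G F ?_
  rw [show p * q * G.full.x a 1 * (p * q)⁻¹ = p * (q * G.full.x a 1 * q⁻¹) * p⁻¹ by group,
    cc_spec G F ha hq 1, mul_one, show p * (G.full.x a 1 * G.full.x (top D) (Cc G a q)) * p⁻¹ =
      (p * G.full.x a 1 * p⁻¹) * (p * G.full.x (top D) (Cc G a q) * p⁻¹) by group,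
    cc_spec G F ha hp 1, mul_one, top_comm' G F (qs_le_pos G F hp), mul_assoc, G.full.x_add]

theorem cc_one (a : ℕ) : Cc G a (1 : GL D.Idx K) = 0 :=
  cc_eq G F (by simp [G.full.x_zero])

theorem cc_inv {a : ℕ} (ha : a ∈ qs T) {p : GL D.Idx K} (hp : p ∈ G.US K (qs T)) :
    Cc G a p⁻¹ = -Cc G a p := by
  have h := cc_mul G F ha (inv_mem hp) hp
  rw [inv_mul_cancel, cc_one G F] at h
  exact eq_neg_of_add_eq_zero_left h.symm

theorem cc_top (a : ℕ) (ha : IsPos D a) (t : K) : Cc G a (G.full.x (top D) t) = 0 := by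
  refine cc_eq G F ?_
  rw [G.full.x_zero, mul_one, ← (top_comm G F (G.x_mem_US ha 1) t).eq, mul_inv_cancel_right]

theorem cc_x {a s : ℕ} (ha : a ∈ qs T) (hs : s ∈ qs T) (h : T.commT a s = []) (hn : negR D a ≠ s)
    (t : K) : Cc G a (G.full.x s t) = 0 := by
  refine cc_eq G F ?_
  rw [G.full.x_zero, mul_one]
  rcases eq_or_ne s a with rfl | hne
  · rw [G.full.x_add, add_comm, ← G.full.x_add, mul_inv_cancel_right]
  have e := G.full.x_comm (qs_pos G F ha).1 (qs_pos G F hs).1 hne hn.symm 1 t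
  rw [G.full.cert.commWord_eq (qs_pos G F ha).1 (qs_pos G F hs).1, h] at e
  simp only [rhsWord, List.map_nil, List.prod_nil, mul_one] at e
  rw [e, mul_inv_cancel_right]

theorem cc_x_partner {a s : ℕ} (ha : a ∈ qs T) (hs : s ∈ qs T) {N : ℤ} (hne : s ≠ a)
    (h : T.commT a s = [(top D, N, 1, 1)]) (t : K) :
    Cc G a (G.full.x s t) = -(N : K) * t := by
  refine cc_eq G F ?_
  have hn : s ≠ negR D a := fun e => by
    have := G.negR_pos (qs_pos G F ha)
    rw [← e] at this
    exact this (qs_pos G F hs).2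
  have e := G.full.x_comm (qs_pos G F ha).1 (qs_pos G F hs).1 hne hn 1 t
  rw [G.full.cert.commWord_eq (qs_pos G F ha).1 (qs_pos G F hs).1, h] at e
  simp only [rhsWord, List.map_cons, List.map_nil, List.prod_cons, List.prod_nil, mul_one,
    pow_one] at e
  rw [e, show G.full.x a 1 * G.full.x s t * G.full.x (top D) ((N : K) * -1 * t) *
      (G.full.x s t)⁻¹ = G.full.x a 1 * (G.full.x s t * G.full.x (top D) ((N : K) * -1 * t) *
      (G.full.x s t)⁻¹) by group, top_comm' G F (G.x_mem_US (qs_pos G F hs) t)]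
  congr 2
  ring

/-- The coordinates commute with field maps. -/
theorem cc_map (σ : K →+* K) {a : ℕ} (ha : a ∈ qs T) {u : GL D.Idx K} (hu : u ∈ G.US K (qs T)) :
    Cc G a (glMap D σ u) = σ (Cc G a u) := by
  refine cc_eq G F ?_
  have h := congrArg (glMap D σ) (cc_spec G F ha hu 1)
  simpa [map_mul, G.glMap_x] using h

/-- The coordinates of a conjugate by a monomial element preserving the highest root. -/
theorem cc_conj {n : GL D.Idx K} {a a' : ℕ} {η η' : K} (hη : η * η = 1) (ha : a ∈ qs T)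
    (hn : ∀ t, n * G.full.x a t * n⁻¹ = G.full.x a' (η * t))
    (hn' : ∀ t, n * G.full.x (top D) t * n⁻¹ = G.full.x (top D) (η' * t)) {u : GL D.Idx K}
    (hu : u ∈ G.US K (qs T)) : Cc G a' (n * u * n⁻¹) = η' * η * Cc G a u := by
  refine cc_eq G F ?_
  have h1 : G.full.x a' 1 = n * G.full.x a η * n⁻¹ := by rw [hn, hη]
  rw [h1, show n * u * n⁻¹ * (n * G.full.x a η * n⁻¹) * (n * u * n⁻¹)⁻¹ =
      n * (u * G.full.x a η * u⁻¹) * n⁻¹ by group, cc_spec G F ha hu,
    show n * (G.full.x a η * G.full.x (top D) (Cc G a u * η)) * n⁻¹ =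
      (n * G.full.x a η * n⁻¹) * (n * G.full.x (top D) (Cc G a u * η) * n⁻¹) by group, hn']
  congr 2
  ring

theorem x_commute {a b : ℕ} (ha : a < D.nroots) (hb : b < D.nroots) (h : T.commT a b = [])
    (hn : b ≠ negR D a) (t v : K) : Commute (G.full.x a t) (G.full.x b v) := by
  rcases eq_or_ne b a with rfl | hne
  · show _ * _ = _ * _
    rw [G.full.x_add, G.full.x_add, add_comm]
  have e := G.full.x_comm ha hb hne hn t v
  rw [G.full.cert.commWord_eq ha hb, h] at e
  simp only [rhsWord, List.map_nil, List.prod_nil, mul_one] at e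
  exact e.symm

/-- A single term in a commutator of root elements. -/
theorem x_conj {a r c : ℕ} {N : ℤ} (ha : a < D.nroots) (hr : r < D.nroots) (hne : r ≠ a)
    (hn : r ≠ negR D a) (h : T.commT a r = [(c, N, 1, 1)]) (t v : K) :
    G.full.x r v * G.full.x a t =
      G.full.x a t * G.full.x r v * G.full.x c (-(N : K) * t * v) := by
  have e := G.full.x_comm ha hr hne hn t v
  rw [G.full.cert.commWord_eq ha hr, h] at e
  simp only [rhsWord, List.map_cons, List.map_nil, List.prod_cons, List.prod_nil, mul_one,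
    pow_one] at e
  rw [e]
  congr 2
  ring

end SubfieldTw

end CfsgLib.Chev
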