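import Cfsg.Agent.Chev.SubfieldTw.Main
import Cfsg.Agent.Chev.Subfield.FrameData
import Cfsg.Agent.Chev.D4TwCoord

/-!
The points over the field of `q` elements are maximal in `³D₄(q)`.
-/

set_option autoImplicit false
set_option linter.unusedSectionVars false

namespace CfsgLib.Chev.SubfieldTw

open Cfsg.Lie Matrix Tab SubfieldMax
open scoped MatrixGroups

/-- The data of the radical in `³D₄`. -/
def d4Data : Data :=
  { b := 14, bb := 22, aa := 20, jr := 1, lr := [1, 3, 2, 0]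
    qo := [[(14, 22, -1)], [(15, 21, 1), (19, 17, 1), (16, 20, 1)], [(22, 14, 1)],
      [(17, 19, -1), (20, 16, -1), (21, 15, -1)]]
    ch := [20, 19], stp := [[0, 2, 3]] }

theorem d4_chkMap : chkMapTw D4Data.tab graphMapD4a = true := by decide +kernel

theorem d4_checks : Checks D4Data.tab graphMapD4a D4Tw.orbs d4Data [[], [1]] where
  normal := by decide +kernel
  qo := by decide +kernel
  b := by decide +kernel
  r := by decide +kernel
  chain := by decide +kernel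
  last := by decide +kernel
  move := by decide +kernel
  stp := by decide +kernel

/-- The certificate of `³D₄`. -/
def d4Cert : Cert' D4Data.tab graphMapD4a D4Tw.orbs where
  C := d4Data
  lv := [[], [1]]
  lg := [(23, [], [0, 1, 0, 1, 0]), (22, [0], [0, 1, 0, 1, 0, 0]),
    (14, [1, 0], [0, 1, 0, 1, 0, 0, 1]), (9, [0, 1, 0], [0, 1, 0, 1, 0, 0, 1, 0]),
    (1, [1, 0, 1, 0], [0, 1, 0, 1, 0, 0, 1, 0, 1]),
    (0, [0, 1, 0, 1, 0], [0, 1, 0, 1, 0, 0, 1, 0, 1, 0])]
  start := 14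
  st := [[18, 13, 12], [1]]
  O := [5, 10, 11]
  sw := [(12, [1], 11), (13, [1], 10), (15, [0, 1], 11), (16, [0, 1], 10), (17, [1, 0, 1], 5),
    (18, [1], 5), (19, [0, 1], 5), (20, [1, 0, 1], 10), (21, [1, 0, 1], 11)]
  J := ⟨1, by decide⟩
  Lp := [0, 1]
  W := fun _ => []
  checks := d4_checks
  longs := by decide +kernel
  span := by decide +kernel
  pull := by decide +kernel

theorem d4_steps_val : expand D4Data.tab ([0, 2, 3].map chevD4.simple) 19 =
    [(20, -1), (21, -1), (22, 1)] := by decide +kernel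

theorem d4_map_vals : piN graphMapD4a 20 = 21 ∧ (mapAt graphMapD4a 20).2.1 = 1 ∧
    piN graphMapD4a 22 = 22 ∧ inQ D4Data.tab 20 = true ∧ inQ D4Data.tab 22 = true := by
  decide +kernel

theorem d4_cart : ∀ i ∈ ([0, 2, 3] : List (Fin 4)),
    D4Data.tab.cart (1 : Fin 4) (chevD4.simple i) = -1 := by decide +kernel

theorem d4_refl_vals :
    (D4Data.tab.reflT 1 18 = 19 ∧ D4Data.tab.sgn 1 18 = 1) ∧
    (D4Data.tab.reflT 1 13 = 16 ∧ D4Data.tab.sgn 1 13 = -1) ∧
    (D4Data.tab.reflT 1 12 = 15 ∧ D4Data.tab.sgn 1 12 = -1) ∧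
    (∀ s ∈ [(20, 13, -1), (21, 12, -1), (17, 18, 1)], ∀ L ∈ [([1, 0, 2, 3] : List ℕ)],
      D4Data.tab.wordT L s.1 = s.2.1 ∧
      D4Data.tab.sgn 3 s.1 * D4Data.tab.sgn 2 (D4Data.tab.reflT 3 s.1) *
        D4Data.tab.sgn 0 (D4Data.tab.reflT 2 (D4Data.tab.reflT 3 s.1)) *
        D4Data.tab.sgn 1 (D4Data.tab.reflT 0 (D4Data.tab.reflT 2 (D4Data.tab.reflT 3 s.1))) =
        (s.2.2 : ℤ)) := by
  decide +kernel

variable {K : Type*} [Field K] [Fintype K] {q : ℕ}

/-- The setting of `³D₄`. -/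
theorem d4Env (C : D4Tw.Ctx K q) : Env C.Φ C.φ graphMapD4a D4Tw.orbs where
  frame := frame_of_chk frameD4
  hπ := C.hπ
  hf := C.hf
  mapOK := d4_chkMap
  a1 := C.A
  htor := C.htor

theorem d4_steps (C : D4Tw.Ctx K q) : StepsOK good_D4 C.Φ C.φ d4Data := by
  intro j hj u hu huf _ hir h
  obtain rfl : j = 0 := Nat.lt_one_iff.mp hj
  obtain ⟨h21, hs20, h22, hq20, hq22⟩ := d4_map_vals
  have E := d4Env C
  have hc := E.cc_A (show 20 ∈ qs D4Data.tab from hq20) hu
  rw [huf.2, h21, hs20, Int.cast_one, one_mul] at hc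
  have hlong := E.fixed_long (show 22 ∈ qs D4Data.tab from hq22) h22 hu huf.2
  change C.φ (expSum good_D4 ([0, 2, 3].map chevD4.simple) 19 u) =
    expSum good_D4 ([0, 2, 3].map chevD4.simple) 19 u at h
  refine hir ?_
  show C.φ (Cc good_D4 20 u) = Cc good_D4 20 u
  rw [expSum, d4_steps_val] at h
  simp only [List.map_cons, List.map_nil, List.sum_cons, List.sum_nil, add_zero, map_add,
    Int.cast_neg, Int.cast_one, hlong, map_neg, hc, neg_mul, one_mul] at h
  set x := Cc good_D4 20 u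
  have h2 : C.φ (C.φ x) = x := by linear_combination -h
  calc C.φ x = C.φ (C.φ (C.φ x)) := by rw [h2]
    _ = x := C.φ_cube x

section Par

variable (C : D4Tw.Ctx K q) {H : Subgroup (GL chevD4.Idx K)}
  (hM : ∀ g, Rat1 (d4Env C) g → g ∈ H) (hH : H ≤ (d4Env C).Z.G1)

local notation "X" => good_D4.full.x (F := K)

theorem d4_mem_par (b : K) :
    b ∈ (d4Env C).Par H d4Cert.J (⟨0, by decide⟩ : Fin chevD4.rank) ↔
      C.UC 0 b 0 0 0 0 ∈ H := by
  have hoJ : good_D4.oJ D4Tw.orbs d4Cert.J = ([0, 2, 3] : List (Fin 4)) := rfl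
  have hPX : ∀ x : K, good_D4.PX (good_D4.oJ D4Tw.orbs d4Cert.J)
      (![x, 0, x ^ q, (x ^ q) ^ q] : Fin 4 → K) = C.UC 0 x 0 0 0 0 := by
    intro x
    unfold Good.PX
    rw [hoJ]
    show ([X 18 x, X 13 (x ^ q), X 12 ((x ^ q) ^ q)] : List (GL chevD4.Idx K)).prod = _
    simp [D4Tw.Ctx.UC, D4Tw.P12, good_D4.full.x_zero, C.hφ, zero_pow C.hq.pos.ne']
  constructor
  · rintro ⟨t, ht, rfl, h⟩
    rw [(d4Env C).PX_congr ht (C.tup_three hoJ (t (⟨0, by decide⟩ : Fin chevD4.rank)))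
      (a := (⟨0, by decide⟩ : Fin chevD4.rank)) (by rw [hoJ]; exact List.mem_cons_self) rfl,
      hPX] at h
    exact h
  · intro h
    exact ⟨_, C.tup_three hoJ b, rfl, by rw [hPX]; exact h⟩

include hM hH

theorem d4_inv {b : K} (hb : b ≠ 0) (h : C.UC 0 b 0 0 0 0 ∈ H) :
    C.UC 0 (b * C.φ b * C.φ (C.φ b) * b⁻¹) 0 0 0 0 ∈ H := by
  set E := d4Env C
  set N := b * C.φ b * C.φ (C.φ b)
  have hN : C.φ N = N := by
    simp only [N, map_mul, C.φ_cube]
    ring
  have h1 : C.UC 1 0 0 0 0 0 ∈ H := by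
    refine hM _ ?_
    rw [show C.UC 1 0 0 0 0 0 = X 14 1 by simp [D4Tw.Ctx.UC, D4Tw.P12, good_D4.full.x_zero]]
    exact E.x_long_rat (by decide) (by decide) (map_one C.φ)
  -- the commutator with the long fundamental root element
  set F := C.mulF b 0 0 0 0 1 0 0 0
  have hP : C.UC 1 b (-b) (b * C.φ (C.φ b)) (-N) F ∈ H := by
    have := mul_mem h h1
    rw [C.UC_mul (map_one C.φ)] at this
    simpa [D4Tw.Ctx.mulD, D4Tw.Ctx.mulE, F, N] using this
  have hR : C.UC 1 b 0 0 0 0 ∈ H := by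
    have := mul_mem h1 h
    rw [C.UC_mul (map_zero C.φ)] at this
    simpa [D4Tw.Ctx.mulD, D4Tw.Ctx.mulE, D4Tw.Ctx.mulF] using this
  have hX : C.UC 0 0 (-b) (b * C.φ (C.φ b)) (-N) F ∈ H := by
    have e : C.UC 1 b (-b) (b * C.φ (C.φ b)) (-N) F =
        C.UC 1 b 0 0 0 0 * C.UC 0 0 (-b) (b * C.φ (C.φ b)) (-N) F := by
      rw [C.UC_mul (map_zero C.φ)]
      simp [D4Tw.Ctx.mulD, D4Tw.Ctx.mulE, D4Tw.Ctx.mulF]
    have h3 := mul_mem (inv_mem hR) hP
    rwa [e, inv_mul_cancel_left] at h3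
  obtain ⟨⟨r18, g18⟩, ⟨r13, g13⟩, ⟨r12, g12⟩, hword⟩ := d4_refl_vals
  have hc : C.UC 0 0 (-b) 0 0 0 ∈ H := by
    have hneg : C.UC 0 (-b) 0 0 0 0 ∈ H := by
      have e : C.UC 0 b 0 0 0 0 * C.UC 0 (-b) 0 0 0 0 = 1 := by
        rw [C.UC_mul (map_zero C.φ), ← C.UC_zero]
        simp [D4Tw.Ctx.mulD, D4Tw.Ctx.mulE, D4Tw.Ctx.mulF]
      rw [eq_inv_of_mul_eq_one_right e]
      exact inv_mem h
    set n := good_D4.full.nw K ([⟨1, by decide⟩] : List (Fin chevD4.rank))
    have hn : n ∈ H := hM _ ⟨C.A.n_mem ⟨0, by decide⟩, good_D4.glMap_nw C.φ _⟩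
    have hns : n = good_D4.full.ns K 1 := by simp [n, Full.nw]
    have hconj : ∀ s, s < 24 → ∀ t : K, n * X s t * n⁻¹ =
        X (D4Data.tab.reflT 1 s) ((D4Data.tab.sgn 1 s : K) * t) := fun s hs t => by
      rw [hns, good_D4.full.ns_conj (by decide) hs]
    have e : C.UC 0 0 (-b) 0 0 0 = n * C.UC 0 (-b) 0 0 0 0 * n⁻¹ := by
      rw [show C.UC 0 (-b) 0 0 0 0 = X 18 (-b) * X 13 (C.φ (-b)) * X 12 (C.φ (C.φ (-b))) by
          simp [D4Tw.Ctx.UC, D4Tw.P12, good_D4.full.x_zero, mul_assoc],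
        show ∀ a c d : GL chevD4.Idx K, n * (a * c * d) * n⁻¹ =
          (n * a * n⁻¹) * (n * c * n⁻¹) * (n * d * n⁻¹) from fun _ _ _ => by group,
        hconj 18 (by decide), hconj 13 (by decide), hconj 12 (by decide), r18, r13, r12, g18, g13,
        g12]
      simp [D4Tw.Ctx.UC, D4Tw.P12, good_D4.full.x_zero, mul_assoc]
    rw [e]
    exact mul_mem (mul_mem hn hneg) (inv_mem hn)
  have hD : C.UC 0 0 0 (b * C.φ (C.φ b)) (-N) F ∈ H := by
    have e : C.UC 0 0 (-b) (b * C.φ (C.φ b)) (-N) F =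
        C.UC 0 0 (-b) 0 0 0 * C.UC 0 0 0 (b * C.φ (C.φ b)) (-N) F := by
      rw [C.UC_mul (map_zero C.φ)]
      simp [D4Tw.Ctx.mulD, D4Tw.Ctx.mulE, D4Tw.Ctx.mulF]
    have h3 := mul_mem (inv_mem hc) hX
    rwa [e, inv_mul_cancel_left] at h3
  have hFf : C.φ F = F := by
    have hU : C.UC 0 0 0 (b * C.φ (C.φ b)) (-N) F ∈ C.Z.U1 := by
      refine Subgroup.mem_inf.mpr ⟨C.Z.le_fix (hH hD), ?_⟩
      rw [good_D4.posUnipotent_eq]
      exact D4Tw.P12_mem _
    obtain ⟨a', b', c', d', e', f', -, -, hf', e⟩ := C.mem_U1.mp hU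
    rw [(C.UC_inj e).2.2.2.2.2]
    exact hf'
  have hd : C.UC 0 0 0 (b * C.φ (C.φ b)) 0 0 ∈ H := by
    have hr : C.UC 0 0 0 0 (-N) F ∈ H := by
      refine hM _ ?_
      rw [show C.UC 0 0 0 0 (-N) F = X 22 (-N) * X 23 F by
        simp [D4Tw.Ctx.UC, D4Tw.P12, good_D4.full.x_zero]]
      exact E.rat_mul (E.x_long_rat (by decide) (by decide) (by rw [map_neg, hN]))
        (E.x_long_rat (by decide) (by decide) hFf)
    have e : C.UC 0 0 0 (b * C.φ (C.φ b)) (-N) F =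
        C.UC 0 0 0 (b * C.φ (C.φ b)) 0 0 * C.UC 0 0 0 0 (-N) F := by
      rw [C.UC_mul (map_zero C.φ)]
      simp [D4Tw.Ctx.mulD, D4Tw.Ctx.mulE, D4Tw.Ctx.mulF]
    have h3 := mul_mem hD (inv_mem hr)
    rwa [e, mul_inv_cancel_right] at h3
  -- transport to the orbit of short fundamental roots
  set w : List (Fin chevD4.rank) :=
    [⟨1, by decide⟩, ⟨0, by decide⟩, ⟨2, by decide⟩, ⟨3, by decide⟩]
  set n := good_D4.full.nw K w
  have hn : n ∈ H := by
    refine hM _ ⟨?_, good_D4.glMap_nw C.φ _⟩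
    have h2 := mul_mem (C.A.n_mem ⟨0, by decide⟩) (C.A.n_mem ⟨1, by decide⟩)
    rw [← good_D4.nw_append] at h2
    exact h2
  have hconj : ∀ s, s < 24 → ∀ t : K, n * X s t * n⁻¹ =
      X (D4Data.tab.wordT [1, 0, 2, 3] s)
        (((D4Data.tab.sgn 3 s * D4Data.tab.sgn 2 (D4Data.tab.reflT 3 s) *
          D4Data.tab.sgn 0 (D4Data.tab.reflT 2 (D4Data.tab.reflT 3 s)) *
          D4Data.tab.sgn 1 (D4Data.tab.reflT 0 (D4Data.tab.reflT 2 (D4Data.tab.reflT 3 s))) :
          ℤ) : K) * t) := by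
    intro s hs t
    have h3 := (good_D4.full.reflT_spec (show 3 < chevD4.rank by decide) hs).1
    have h2 := (good_D4.full.reflT_spec (show 2 < chevD4.rank by decide) h3).1
    have h0 := (good_D4.full.reflT_spec (show 0 < chevD4.rank by decide) h2).1
    have hn' : n = good_D4.full.ns K 1 * (good_D4.full.ns K 0 * (good_D4.full.ns K 2 *
        good_D4.full.ns K 3)) := by simp [n, w, Full.nw]
    rw [hn', show ∀ a c d e g : GL chevD4.Idx K, a * (c * (d * e)) * g * (a * (c * (d * e)))⁻¹ =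
        a * (c * (d * (e * g * e⁻¹) * d⁻¹) * c⁻¹) * a⁻¹ from fun _ _ _ _ _ => by group,
      good_D4.full.ns_conj (by decide) hs, good_D4.full.ns_conj (by decide) h3,
      good_D4.full.ns_conj (by decide) h2, good_D4.full.ns_conj (by decide) h0]
    refine congrArg (good_D4.full.x _) ?_
    push_cast
    ring
  obtain ⟨w20, s20⟩ := hword (20, 13, -1) (by simp) _ List.mem_cons_self
  obtain ⟨w21, s21⟩ := hword (21, 12, -1) (by simp) _ List.mem_cons_self
  obtain ⟨w17, s17⟩ := hword (17, 18, 1) (by simp) _ List.mem_cons_self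
  dsimp only at w20 s20 w21 s21 w17 s17
  set d := b * C.φ (C.φ b)
  have hmem := mul_mem (mul_mem hn hd) (inv_mem hn)
  rw [show C.UC 0 0 0 d 0 0 = X 20 d * X 21 (C.φ d) * X 17 (-C.φ (C.φ d)) by
      simp [D4Tw.Ctx.UC, D4Tw.P12, good_D4.full.x_zero, mul_assoc],
    show ∀ a c e : GL chevD4.Idx K, n * (a * c * e) * n⁻¹ =
      (n * a * n⁻¹) * (n * c * n⁻¹) * (n * e * n⁻¹) from fun _ _ _ => by group,
    hconj 20 (by decide), hconj 21 (by decide), hconj 17 (by decide), w20, s20, w21, s21, w17,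
    s17] at hmem
  have hz : C.φ (C.φ d) = N * b⁻¹ := by
    simp only [d, N, map_mul, C.φ_cube]
    field_simp
  have hcomm : Commute (X 13 (-d) * X 12 (-C.φ d)) (X 18 (-C.φ (C.φ d))) :=
    Commute.mul_left
      (x_commute good_D4 (frame_of_chk frameD4) (by decide) (by decide) (by decide +kernel)
        (by decide) _ _)
      (x_commute good_D4 (frame_of_chk frameD4) (by decide) (by decide) (by decide +kernel)
        (by decide) _ _)
  simp only [Int.cast_neg, Int.cast_one, neg_mul, one_mul] at hmem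
  rw [hcomm.eq, hz] at hmem
  have e : (C.UC 0 (N * b⁻¹) 0 0 0 0)⁻¹ =
      X 18 (-(N * b⁻¹)) * (X 13 (-d) * X 12 (-C.φ d)) := by
    have h1 : C.φ (N * b⁻¹) = d := by rw [← hz, C.φ_cube]
    refine inv_eq_of_mul_eq_one_right ?_
    rw [show X 18 (-(N * b⁻¹)) * (X 13 (-d) * X 12 (-C.φ d)) = C.UC 0 (-(N * b⁻¹)) 0 0 0 0 by
      simp [D4Tw.Ctx.UC, D4Tw.P12, good_D4.full.x_zero, map_neg, h1],
      C.UC_mul (map_zero C.φ), ← C.UC_zero]
    simp [D4Tw.Ctx.mulD, D4Tw.Ctx.mulE, D4Tw.Ctx.mulF]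
  rw [← e] at hmem
  simpa using inv_mem hmem

end Par

theorem d4_maximal (hq : IsPrimePow q) (hK : Fintype.card K = q ^ 3)
    (M : Subgroup (GL chevD4.Idx K))
    (hM : ∀ g : GL chevD4.Idx K, g ∈ M ↔ g ∈ twistedD4 K q ∧
      ∀ i j : chevD4.Idx, ((g : Matrix chevD4.Idx chevD4.Idx K) i j) ^ q =
        (g : Matrix chevD4.Idx chevD4.Idx K) i j) :
    M ≠ twistedD4 K q ∧ ∀ H : Subgroup (GL chevD4.Idx K), M ≤ H → H ≤ twistedD4 K q →
      H = M ∨ H = twistedD4 K q := by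
  classical
  obtain ⟨C⟩ := D4Tw.exists_ctx hq hK
  set E := d4Env C
  have hq1 := hq.one_lt
  have hfix : ∀ g : GL chevD4.Idx K, glMap chevD4 C.φ g = g ↔ ∀ i j : chevD4.Idx,
      ((g : Matrix chevD4.Idx chevD4.Idx K) i j) ^ q =
        (g : Matrix chevD4.Idx chevD4.Idx K) i j := fun g => by
    constructor
    · intro h i j
      rw [← C.hφ]
      exact congrArg (fun m : GL chevD4.Idx K => (m : Matrix chevD4.Idx chevD4.Idx K) i j) h
    · intro h
      refine Units.ext (Matrix.ext fun i j => ?_)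
      show C.φ _ = _
      rw [C.hφ]; exact h i j
  have hcard : Nat.card K = Nat.card {x : K // C.φ x = x} ^ 3 := by
    rw [Nat.card_eq_fintype_card, hK, Nat.card_congr (Equiv.subtypeEquivRight fun x =>
      show C.φ x = x ↔ x ^ q = x by rw [C.hφ]), card_fixed hq hK]
  obtain ⟨x, hx⟩ : ∃ x : K, C.φ x ≠ x := by
    by_contra hall
    simp only [not_exists, not_not] at hall
    have h1 : Nat.card {x : K // C.φ x = x} = Nat.card K :=
      Nat.card_congr (Equiv.subtypeUnivEquiv hall)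
    rw [h1, Nat.card_eq_fintype_card, hK, ← pow_mul] at hcard
    have := Nat.pow_right_injective hq1 hcard
    omega
  rw [← C.grp_eq] at hM ⊢
  have hoJ : good_D4.oJ D4Tw.orbs d4Cert.J = ([0, 2, 3] : List (Fin 4)) := rfl
  have ha : (⟨0, by decide⟩ : Fin chevD4.rank) ∈ good_D4.oJ D4Tw.orbs d4Cert.J := by
    rw [hoJ]; exact List.mem_cons_self
  have hρ1 : C.Φ.ρ (1 : Fin 4) = (1 : Fin 4) := (C.rho_eq _).trans rfl
  have hadj : ∀ i ∈ good_D4.oJ D4Tw.orbs d4Cert.J,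
      D4Data.tab.cart (1 : Fin 4) (chevD4.simple i) = -1 := by
    rw [hoJ]; exact d4_cart
  have hW : ∀ J, (∀ i ∈ good_D4.oJ D4Tw.orbs J, C.Φ.ρ i = i) ∨
      chkPull D4Data.tab D4Tw.orbs d4Cert.J.val (d4Cert.W J)
        ((D4Tw.orbs.getD J.val []).map chevD4.simple) = true := by
    intro J
    fin_cases J
    · exact Or.inl fun i hi => by
        obtain rfl : i = (1 : Fin 4) := List.mem_singleton.mp hi
        exact (C.rho_eq _).trans rfl
    · exact Or.inr (by decide +kernel)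
  refine E.maximal d4Cert (d4_steps C) hW ha (fun H hH hHT y hy hyne => ?_)
    (C.tup_three hoJ x) (show C.φ x ≠ x from hx) M (fun g => by rw [hM, hfix]; rfl)
  have hy0 : y ≠ 0 := fun e => hyne (by rw [e, map_zero])
  set N := y * C.φ y * C.φ (C.φ y) with hN
  have hNf : C.φ N = N := by simp only [hN, map_mul, C.φ_cube]; ring
  have hN0 : N ≠ 0 := by
    simp only [hN, ne_eq, mul_eq_zero, map_eq_zero, hy0, or_self, not_false_eq_true]
  have hyi : y⁻¹ ∈ E.Par H d4Cert.J (⟨0, by decide⟩ : Fin chevD4.rank) := by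
    have h1 := (d4_mem_par C (N * y⁻¹)).mpr (d4_inv C hH hHT hy0 ((d4_mem_par C y).mp hy))
    have h2 := E.par_smul hH ha hρ1 hadj (lam := N⁻¹) (by rw [map_inv₀, hNf]) h1
    rwa [inv_mul_cancel_left₀ hN0] at h2
  refine E.par_univ hH ha hρ1 hadj hcard ![1, y, y⁻¹] (fun i => ?_) fun c hc hsum => ?_
  · fin_cases i
    · exact E.par_fixed hH ha (map_one C.φ)
    · exact hy
    · exact hyi
  simp only [Fin.sum_univ_three, Matrix.cons_val_zero, Matrix.cons_val_one, Matrix.cons_val_two,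
    Matrix.head_cons, Matrix.tail_cons, mul_one] at hsum
  have hquad : c 1 * y ^ 2 + c 0 * y + c 2 = 0 := by
    field_simp at hsum
    linear_combination hsum
  have h1 : c 1 = 0 := by
    by_contra h1
    have hφy : C.φ y - y ≠ 0 := sub_ne_zero.mpr hyne
    have e1 := congrArg C.φ hquad
    simp only [map_add, map_mul, map_pow, hc, map_zero] at e1
    have e2 : c 1 * (y + C.φ y) + c 0 = 0 := by
      refine mul_left_cancel₀ hφy ?_
      linear_combination e1 - hquad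
    have e3 := congrArg C.φ e2
    simp only [map_add, map_mul, hc, map_zero] at e3
    have e4 : C.φ (C.φ y) = y := by
      refine mul_left_cancel₀ h1 ?_
      linear_combination e3 - e2
    exact hyne ((congrArg C.φ e4).symm.trans (C.φ_cube y))
  have h0 : c 0 = 0 := by
    by_contra h0
    refine hyne ?_
    have e : y = -c 2 / c 0 := by
      rw [eq_div_iff h0]
      rw [h1] at hquad
      linear_combination hquad
    rw [e, map_div₀, map_neg, hc, hc]
  intro i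
  fin_cases i
  · exact h0
  · exact h1
  · rw [h1, h0] at hquad
    simpa using hquad

end CfsgLib.Chev.SubfieldTw
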