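import Cfsg.Agent.Chev.SubfieldTw.Main
import Cfsg.Agent.Chev.Subfield.FrameData
import Cfsg.Agent.Chev.TwistedE6

/-!
The points over the field of `q` elements are maximal in `²E₆(q)`.
-/

set_option autoImplicit false
set_option linter.unusedSectionVars false

namespace CfsgLib.Chev.SubfieldTw

open Cfsg.Lie Matrix Tab SubfieldMax
open scoped MatrixGroups

/-- The data of the radical in `²E₆`. -/
def e6Data : Data :=
  { b := 46, bb := 70, aa := 66, jr := 1, lr := [1, 3, 4, 5, 2, 3, 4, 0, 2, 3]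
    qo := [[(46, 70, -1)], [(47, 69, 1)], [(48, 68, -1), (50, 66, -1)],
      [(49, 67, 1), (61, 55, 1)], [(51, 65, 1)], [(52, 64, -1), (62, 54, -1)], [(53, 63, -1)],
      [(54, 62, 1), (64, 52, 1)], [(55, 61, -1), (67, 49, -1)], [(63, 53, 1)], [(65, 51, -1)],
      [(69, 47, -1)], [(70, 46, 1)], [(66, 50, 1), (68, 48, 1)]]
    ch := [66, 55, 54, 52, 49, 48], stp := [[0, 5], [2, 4], [3], [2, 4], [0, 5]] }

/-- The word for the longest element. -/
def e6W0 : List ℕ := [0, 1, 2, 3, 1, 2, 0, 1, 2, 3, 0, 1, 2, 1, 0]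

/-- Words from the highest root to the fixed roots. -/
def e6Up : List (ℕ × List ℕ) :=
  [(71, []), (70, [0]), (69, [1, 0]), (65, [2, 1, 0]), (63, [1, 2, 1, 0]), (53, [3, 2, 1, 0]),
    (60, [0, 1, 2, 1, 0]), (51, [3, 1, 2, 1, 0]), (44, [3, 0, 1, 2, 1, 0]),
    (47, [2, 3, 1, 2, 1, 0]), (39, [2, 3, 0, 1, 2, 1, 0]), (46, [1, 2, 3, 1, 2, 1, 0]),
    (32, [1, 2, 3, 0, 1, 2, 1, 0]), (25, [0, 1, 2, 3, 1, 2, 1, 0]),
    (24, [0, 1, 2, 3, 0, 1, 2, 1, 0]), (27, [2, 1, 2, 3, 0, 1, 2, 1, 0]),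
    (20, [2, 0, 1, 2, 3, 0, 1, 2, 1, 0]), (11, [3, 2, 1, 2, 3, 0, 1, 2, 1, 0]),
    (18, [1, 2, 0, 1, 2, 3, 0, 1, 2, 1, 0]), (8, [3, 2, 0, 1, 2, 3, 0, 1, 2, 1, 0]),
    (6, [3, 1, 2, 0, 1, 2, 3, 0, 1, 2, 1, 0]), (2, [2, 3, 1, 2, 0, 1, 2, 3, 0, 1, 2, 1, 0]),
    (1, [1, 2, 3, 1, 2, 0, 1, 2, 3, 0, 1, 2, 1, 0]),
    (0, [0, 1, 2, 3, 1, 2, 0, 1, 2, 3, 0, 1, 2, 1, 0])]

/-- Words between the fixed roots and the highest and lowest ones. -/
def e6Longs : List (ℕ × List ℕ × List ℕ) := e6Up.map fun p => (p.1, p.2, e6W0 ++ p.2.reverse)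

/-- Words spreading a short orbit over the non-fixed positive roots. -/
def e6Sw : List (ℕ × List ℕ × ℕ) :=
  [(36, [2, 3, 1, 2], 43), (37, [1, 2], 43), (38, [3, 1, 2], 43), (40, [2], 43), (41, [3, 2], 43),
    (42, [1], 43), (43, [], 43), (45, [2, 3, 2], 43), (48, [2, 0], 43), (49, [3, 2, 0], 43),
    (50, [0], 43), (52, [2, 3, 2, 0], 43), (54, [1, 2, 3, 2, 0], 43),
    (55, [2, 1, 2, 3, 2, 0], 43), (56, [2, 3, 1], 43), (57, [3, 1], 43), (58, [3], 43),
    (59, [2, 3], 43), (61, [3, 0], 43), (62, [2, 3, 0], 43), (64, [1, 2, 3, 0], 43),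
    (66, [3, 2, 1, 2, 3, 2, 0], 43), (67, [2, 1, 2, 3, 0], 43),
    (68, [3, 2, 1, 2, 3, 0], 43)]

/-- The words moving the chain. -/
def e6Lv : List (List ℕ) := [[], [3], [3, 2], [3, 2, 1], [3, 2, 1, 2], [3, 2, 1, 2, 3]]

theorem e6_chkMap : chkMapTw E6Data.tab graphMapE6 = true := by decide +kernel

theorem e6_checks : Checks E6Data.tab graphMapE6 E6Tw.orbs e6Data e6Lv where
  normal := by decide +kernel
  qo := by decide +kernel
  b := by decide +kernel
  r := by decide +kernel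
  chain := by decide +kernel
  last := by decide +kernel
  move := by decide +kernel
  stp := by decide +kernel

/-- The certificate of `²E₆`. -/
def e6Cert : Cert' E6Data.tab graphMapE6 E6Tw.orbs where
  C := e6Data
  lv := e6Lv
  lg := e6Longs
  start := 39
  st := [[42, 37]]
  O := [43, 40]
  sw := e6Sw
  J := ⟨2, by decide⟩
  Lp := [3, 1, 2, 0, 1, 2, 3]
  W := fun J => if J.val = 3 then [3, 2] else []
  checks := e6_checks
  longs := by decide +kernel
  span := by decide +kernel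
  pull := by decide +kernel

theorem e6_steps_val : ∀ j : Fin 5, ∃ N ∈ [(1 : ℤ), -1],
    expand E6Data.tab ((e6Data.stp.getD j.val []).map chevE6.simple)
      (e6Data.ch.getD (j.val + 1) 0) = [(e6Data.ch.getD j.val 0, N)] := by
  decide +kernel

theorem e6_cart : ∀ i ∈ ([2, 4] : List (Fin 6)),
    E6Data.tab.cart (3 : Fin 6) (chevE6.simple i) = -1 := by decide +kernel

variable {K : Type*} [Field K] [Fintype K] {q : ℕ}

/-- The setting of `²E₆`. -/
theorem e6Env (C : E6Tw.Ctx K q) : Env C.Φ C.φ graphMapE6 E6Tw.orbs where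
  frame := frame_of_chk frameE6
  hπ := C.hπ
  hf := C.hf
  mapOK := e6_chkMap
  a1 := C.A
  htor := C.htor

theorem e6_steps (C : E6Tw.Ctx K q) : StepsOK good_E6 C.Φ C.φ e6Data := by
  intro j hj u _ _ _ hir h
  obtain ⟨N, hN, e⟩ := e6_steps_val ⟨j, hj⟩
  rw [expSum] at h
  dsimp only at e
  rw [e] at h
  simp only [List.map_cons, List.map_nil, List.sum_cons, List.sum_nil, add_zero, map_mul,
    map_intCast] at h
  refine hir (mul_left_cancel₀ ?_ h)
  simp only [List.mem_cons, List.not_mem_nil, or_false] at hN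
  rcases hN with rfl | rfl <;> simp

theorem e6_maximal (hq : IsPrimePow q) (hK : Fintype.card K = q ^ 2)
    (M : Subgroup (GL chevE6.Idx K))
    (hM : ∀ g : GL chevE6.Idx K, g ∈ M ↔ g ∈ twistedE6 K q ∧
      ∀ i j : chevE6.Idx, ((g : Matrix chevE6.Idx chevE6.Idx K) i j) ^ q =
        (g : Matrix chevE6.Idx chevE6.Idx K) i j) :
    M ≠ twistedE6 K q ∧ ∀ H : Subgroup (GL chevE6.Idx K), M ≤ H → H ≤ twistedE6 K q →
      H = M ∨ H = twistedE6 K q := by
  classical
  obtain ⟨C⟩ := E6Tw.exists_ctx hq hK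
  set E := e6Env C
  have hq1 := hq.one_lt
  have hfix : ∀ g : GL chevE6.Idx K, glMap chevE6 C.φ g = g ↔ ∀ i j : chevE6.Idx,
      ((g : Matrix chevE6.Idx chevE6.Idx K) i j) ^ q =
        (g : Matrix chevE6.Idx chevE6.Idx K) i j := fun g => by
    constructor
    · intro h i j
      rw [← C.hφ]
      exact congrArg (fun m : GL chevE6.Idx K => (m : Matrix chevE6.Idx chevE6.Idx K) i j) h
    · intro h
      refine Units.ext (Matrix.ext fun i j => ?_)
      show C.φ _ = _
      rw [C.hφ]; exact h i j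
  have hcard : Nat.card K = Nat.card {x : K // C.φ x = x} ^ 2 := by
    rw [Nat.card_eq_fintype_card, hK, Nat.card_congr (Equiv.subtypeEquivRight fun x =>
      show C.φ x = x ↔ x ^ q = x by rw [C.hφ]), card_fixed hq hK]
  obtain ⟨x, hx⟩ : ∃ x : K, C.φ x ≠ x := by
    by_contra hall
    simp only [not_exists, not_not] at hall
    have h1 : Nat.card {x : K // C.φ x = x} = Nat.card K :=
      Nat.card_congr (Equiv.subtypeUnivEquiv hall)
    rw [h1, Nat.card_eq_fintype_card, hK, ← pow_mul] at hcard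
    have := Nat.pow_right_injective hq1 hcard
    omega
  rw [← C.grp_eq] at hM ⊢
  have hoJ : good_E6.oJ E6Tw.orbs e6Cert.J = ([2, 4] : List (Fin 6)) := rfl
  have ha : (2 : Fin 6) ∈ good_E6.oJ E6Tw.orbs e6Cert.J := by
    rw [hoJ]; exact List.mem_cons_self
  have hρ3 : C.Φ.ρ (3 : Fin 6) = (3 : Fin 6) := (C.rho_eq _).trans rfl
  have hρ2 : C.Φ.ρ (2 : Fin 6) = (4 : Fin 6) := (C.rho_eq _).trans rfl
  have hρ4 : C.Φ.ρ (4 : Fin 6) = (2 : Fin 6) := (C.rho_eq _).trans rfl
  have hadj : ∀ i ∈ good_E6.oJ E6Tw.orbs e6Cert.J,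
      E6Data.tab.cart (3 : Fin 6) (chevE6.simple i) = -1 := by
    rw [hoJ]; exact e6_cart
  have hW : ∀ J, (∀ i ∈ good_E6.oJ E6Tw.orbs J, C.Φ.ρ i = i) ∨
      chkPull E6Data.tab E6Tw.orbs e6Cert.J.val (e6Cert.W J)
        ((E6Tw.orbs.getD J.val []).map chevE6.simple) = true := by
    intro J
    fin_cases J
    · exact Or.inl fun i hi => by
        obtain rfl : i = (1 : Fin 6) := List.mem_singleton.mp hi
        exact (C.rho_eq _).trans rfl
    · exact Or.inl fun i hi => by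
        obtain rfl : i = (3 : Fin 6) := List.mem_singleton.mp hi
        exact (C.rho_eq _).trans rfl
    · exact Or.inr (by decide +kernel)
    · exact Or.inr (by decide +kernel)
  refine E.maximal e6Cert (e6_steps C) hW ha (fun H hH _ y hy hyne => ?_)
    (t := fun i => if i.val = 2 then x else C.φ x) ?_ (show C.φ x ≠ x from hx) M
    (fun g => by rw [hM, hfix]; rfl)
  · refine E.par_univ hH ha hρ3 hadj hcard ![1, y] (fun i => ?_) fun c hc hsum => ?_
    · fin_cases i
      · exact E.par_fixed hH ha (map_one C.φ)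
      · exact hy
    · simp only [Fin.sum_univ_two, Matrix.cons_val_zero, Matrix.cons_val_one, mul_one] at hsum
      have h1 : c 1 = 0 := by
        by_contra h1
        refine hyne ?_
        rw [show y = -c 0 / c 1 by rw [eq_div_iff h1]; linear_combination hsum, map_div₀, map_neg,
          hc, hc]
      intro i
      fin_cases i
      · rw [h1, zero_mul, add_zero] at hsum
        exact hsum
      · exact h1
  · intro i hi
    rw [hoJ] at hi
    have hi' : i = (2 : Fin 6) ∨ i = (4 : Fin 6) :=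
      (List.mem_cons.mp hi).imp_right List.mem_singleton.mp
    rw [E.f_simp]
    rcases hi' with rfl | rfl
    · show (if (C.Φ.ρ (2 : Fin 6)).val = 2 then x else C.φ x) = C.φ x
      rw [congrArg Fin.val hρ2]
      exact if_neg (by decide)
    · show (if (C.Φ.ρ (4 : Fin 6)).val = 2 then x else C.φ x) = C.φ (C.φ x)
      rw [congrArg Fin.val hρ4, C.hφ, C.hφ, C.pow_qq]
      exact if_pos rfl

end CfsgLib.Chev.SubfieldTw
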