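import Cfsg.Agent.Chev.SubfieldTw.Coef

/-!
The fixed elements of the radical of the highest root in a twisted group.
-/

set_option autoImplicit false
set_option linter.unusedSectionVars false

namespace CfsgLib.Chev

open Cfsg.Lie Matrix
open scoped MatrixGroups

namespace SubfieldTw

open Tab SubfieldMax

variable {D : ChevalleyDatum} {T : Tab D} {G : T.Good} {K : Type*} [Field K]

/-- The setting: a graph-field automorphism with orbits of orthogonal fundamental roots. -/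
structure Env (Φ : G.Graph K) (φ : K →+* K) (m : List (ℕ × ℤ × ℕ)) (orbs : List (List ℕ)) :
    Prop where
  frame : Frame T
  hπ : ∀ r, (Φ.π r).val = piN m r.val
  hf : ∀ r t, Φ.f r t = φ (((mapAt m r.val).2.1 : K) * t ^ (mapAt m r.val).2.2)
  mapOK : chkMapTw T m = true
  a1 : G.A1Data Φ orbs
  htor : ∀ c, T.hT K (Φ.σc c) = T.hT K c → T.hT K (c * c) = 1 → T.hT K c ∈ a1.torus

variable {Φ : G.Graph K} {φ : K →+* K} {m : List (ℕ × ℤ × ℕ)} {orbs : List (List ℕ)}

/-- The product of root elements of the radical with given coordinates. -/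
noncomputable def qProd (G : T.Good) (qo : List (List (ℕ × ℕ × ℤ))) (u : GL D.Idx K) :
    GL D.Idx K :=
  (qo.map fun O => (O.map fun e => G.full.x e.1 (-(e.2.2 : K) * Cc G e.2.1 u)).prod).prod

namespace Env

variable (E : Env Φ φ m orbs)
include E

theorem map_spec {r : ℕ} (hr : r < D.nroots) : piN m r < D.nroots ∧ (mapAt m r).2.2 = 1 ∧
    ((mapAt m r).2.1 = 1 ∨ (mapAt m r).2.1 = -1) ∧ (piN m r = r → (mapAt m r).2.1 = 1) ∧
    T.ht (piN m r) = T.ht r ∧ (r ∈ qs T → piN m r ∈ qs T) := by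
  have h := E.mapOK
  simp only [chkMapTw, fixR, Bool.and_eq_true, allBelow_iff, Nat.blt_eq, Nat.beq_eq,
    decide_eq_true_eq, Bool.or_eq_true, Bool.not_eq_true'] at h
  obtain ⟨⟨⟨⟨⟨h1, h2⟩, h3⟩, h4⟩, h5⟩, h6⟩ := h.2 r hr
  refine ⟨h1, h2, Int.natAbs_eq_iff.mp h3 |>.imp id id, fun e => h4.resolve_left ?_, h5,
    fun hq => h6.resolve_left ?_⟩
  · rw [e]; simp
  · rw [show inQ T r = true from hq]; simp

theorem top_fix : piN m (top D) = top D := by
  have h := E.mapOK
  simp only [chkMapTw, fixR, Bool.and_eq_true, Nat.beq_eq] at h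
  exact h.1

theorem A_x {r : ℕ} (hr : r < D.nroots) (t : K) :
    Φ.A (G.full.x r t) = G.full.x (piN m r) (((mapAt m r).2.1 : K) * φ t) := by
  rw [show r = (⟨r, hr⟩ : Fin D.nroots).val from rfl, Φ.A_x, E.hπ, E.hf, (E.map_spec hr).2.1,
    pow_one, map_mul, map_intCast]

theorem A_x_fix {r : ℕ} (hr : r < D.nroots) (h : piN m r = r) (t : K) :
    Φ.A (G.full.x r t) = G.full.x r (φ t) := by
  rw [E.A_x hr, h, (E.map_spec hr).2.2.2.1 h, Int.cast_one, one_mul]

theorem x_fixed {r : ℕ} (hr : r < D.nroots) (h : piN m r = r) {t : K} (ht : φ t = t) :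
    G.full.x r t ∈ Φ.Fix :=
  ⟨G.x_mem_group _ _, by rw [E.A_x_fix hr h, ht]⟩

theorem param_fixed {r : ℕ} (hr : r < D.nroots) (h : piN m r = r) {t : K}
    (hx : G.full.x r t ∈ Φ.Fix) : φ t = t :=
  G.x_inj hr ((E.A_x_fix hr h t).symm.trans hx.2)

theorem A_qs {u : GL D.Idx K} (hu : u ∈ G.US K (qs T)) : Φ.A u ∈ G.US K (qs T) :=
  Φ.A_US (fun s hs => by
    have hlt := (E.frame.closedQ.1 s hs).1
    exact ⟨hlt, by rw [E.hπ]; exact (E.map_spec hlt).2.2.2.2.2 hs⟩) hu

/-- The coordinates of the image under the automorphism. -/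
theorem cc_A {a : ℕ} (ha : a ∈ qs T) {u : GL D.Idx K} (hu : u ∈ G.US K (qs T)) :
    ((mapAt m a).2.1 : K) * Cc G (piN m a) (Φ.A u) = φ (Cc G a u) := by
  have hlt := (E.frame.closedQ.1 a ha).1
  obtain ⟨-, -, hs, -, -, hq⟩ := E.map_spec hlt
  have hug := G.US_le_group _ hu
  have h := congrArg Φ.A (cc_spec G E.frame ha hu 1)
  rw [Φ.A_mul (mul_mem hug (G.x_mem_group _ _)) (inv_mem hug),
    Φ.A_mul hug (G.x_mem_group _ _), Φ.A_inv hug,
    Φ.A_mul (G.x_mem_group _ _) (G.x_mem_group _ _), E.A_x hlt,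
    E.A_x_fix E.frame.top_lt E.top_fix, cc_spec G E.frame (hq ha) (E.A_qs hu), map_one,
    mul_one, mul_one] at h
  rw [mul_comm]
  exact G.x_inj E.frame.top_lt (mul_left_cancel h)

theorem cc_fix_iff {a : ℕ} (ha : a ∈ qs T) {u : GL D.Idx K} (hu : u ∈ G.US K (qs T))
    (hfix : Φ.A u = u) :
    φ (Cc G (piN m a) u) = Cc G (piN m a) u ↔ φ (Cc G a u) = Cc G a u := by
  have h := E.cc_A ha hu
  rw [hfix] at h
  rcases (E.map_spec (E.frame.closedQ.1 a ha).1).2.2.1 with e | e
  all_goals rw [e] at h; simp only [Int.cast_one, one_mul, Int.cast_neg, neg_mul] at h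
  all_goals constructor
  · exact fun hr => φ.injective (by rw [← h, hr])
  · intro hr; rw [h, hr, hr]
  · exact fun hr => φ.injective (by rw [← h, map_neg, hr])
  · intro hr; rw [← neg_neg (Cc G (piN m a) u), h, map_neg, hr, hr]

theorem fixed_long {a : ℕ} (ha : a ∈ qs T) (hp : piN m a = a) {u : GL D.Idx K}
    (hu : u ∈ G.US K (qs T)) (hfix : Φ.A u = u) : φ (Cc G a u) = Cc G a u := by
  have h := E.cc_A ha hu
  rw [hfix, hp, (E.map_spec (E.frame.closedQ.1 a ha).1).2.2.2.1 hp, Int.cast_one, one_mul] at h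
  exact h.symm

/-- All members of an orbit are rational with one of them. -/
theorem orb_rational {r a : ℕ} (hr : r ∈ qs T) (ha : a ∈ orbR m r) {u : GL D.Idx K}
    (hu : u ∈ G.US K (qs T)) (hfix : Φ.A u = u) :
    (φ (Cc G a u) = Cc G a u ↔ φ (Cc G r u) = Cc G r u) ∧ a ∈ qs T := by
  have h1 := (E.map_spec (E.frame.closedQ.1 r hr).1).2.2.2.2.2 hr
  have h2 := (E.map_spec (E.frame.closedQ.1 _ h1).1).2.2.2.2.2 h1
  simp only [orbR, List.mem_cons, List.not_mem_nil, or_false] at ha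
  rcases ha with rfl | rfl | rfl
  · exact ⟨Iff.rfl, hr⟩
  · exact ⟨E.cc_fix_iff hr hu hfix, h1⟩
  · exact ⟨(E.cc_fix_iff h1 hu hfix).trans (E.cc_fix_iff hr hu hfix), h2⟩

/-- An index which is fixed or in one of the given orbits is rational. -/
theorem inFixOrb_rational {as : List ℕ} {a : ℕ} (ha : a ∈ qs T) (h : inFixOrb m as a = true)
    (has : ∀ r ∈ as, r ∈ qs T) {u : GL D.Idx K} (hu : u ∈ G.US K (qs T)) (hfix : Φ.A u = u)
    (hr : ∀ r ∈ as, φ (Cc G r u) = Cc G r u) : φ (Cc G a u) = Cc G a u := by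
  simp only [inFixOrb, fixR, Bool.or_eq_true, Nat.beq_eq, List.any_eq_true, memB_iff] at h
  rcases h with h | ⟨r, hr', hm⟩
  · exact E.fixed_long ha h hu hfix
  · exact (E.orb_rational (has r hr') hm hu hfix).1.mpr (hr r hr')

section Qo

variable {qo : List (List (ℕ × ℕ × ℤ))} (hqo : chkQo T m qo = true)
include hqo

theorem qo_spec : (qo.flatten.map fun e => e.1).Nodup ∧
    (∀ O ∈ qo, (O.map fun e => e.1).Nodup ∧ ∀ e ∈ O, e.1 ∈ qs T ∧ e.2.1 ∈ qs T ∧
      e.1 ≠ top D ∧ e.2.1 ≠ top D ∧ e.1 ≠ e.2.1 ∧ (e.2.2 = 1 ∨ e.2.2 = -1) ∧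
      T.commT e.2.1 e.1 = [(top D, e.2.2, 1, 1)] ∧
      (∀ s ∈ qs T, s ≠ e.1 → T.commT e.2.1 s = []) ∧
      (∃ e' ∈ O, e'.1 = piN m e.1 ∧ e'.2.1 = piN m e.2.1) ∧
      ∀ e' ∈ O, e'.1 = e.1 ∨ T.commT e.1 e'.1 = []) ∧
    ∀ s ∈ qs T, s ≠ top D → ∃ O ∈ qo, ∃ e ∈ O, e.1 = s := by
  have hb : ∀ {x y : ℕ}, Nat.beq x y = false → x ≠ y := fun hb' e' => by
    subst e'; simp at hb'
  simp only [chkQo, Bool.and_eq_true, decide_eq_true_eq, List.all_eq_true, allBelow_iff,
    Bool.or_eq_true, Bool.not_eq_true', Nat.beq_eq, List.any_eq_true, List.isEmpty_iff] at hqo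
  obtain ⟨⟨h1, h2⟩, h3⟩ := hqo
  refine ⟨h1, fun O hO => ⟨(h2 O hO).1, fun e he => ?_⟩, fun s hs hne => ?_⟩
  · obtain ⟨⟨⟨⟨⟨⟨⟨⟨⟨a, b⟩, c⟩, d⟩, f⟩, g⟩, i⟩, j⟩, k⟩, l⟩ := (h2 O hO).2 e he
    refine ⟨a, b, hb c, hb d, hb f, Int.natAbs_eq_iff.mp g |>.imp id id, i, fun s hs hne => ?_,
      k, l⟩
    rcases j s (E.frame.closedQ.1 s hs).1 with (e' | e') | e'
    · rw [show inQ T s = true from hs] at e'; simp at e'
    · exact absurd e' hne
    · exact e'
  · rcases h3 s (E.frame.closedQ.1 s hs).1 with (e' | e') | e'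
    · rw [show inQ T s = true from hs] at e'; simp at e'
    · exact absurd e' hne
    · exact e'

theorem prod_add {l : List (ℕ × ℕ × ℤ)} (hl : ∀ e ∈ l, e.1 ∈ qs T) (f g : ℕ × ℕ × ℤ → K) :
    (l.map fun e => G.full.x e.1 (f e)).prod ∈ G.US K (qs T) ∧
    ∃ z, (l.map fun e => G.full.x e.1 (f e + g e)).prod =
      (l.map fun e => G.full.x e.1 (f e)).prod * (l.map fun e => G.full.x e.1 (g e)).prod *
        G.full.x (top D) z := by
  refine ⟨list_prod_mem fun x hx => ?_, ?_⟩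
  · obtain ⟨e, he, rfl⟩ := List.mem_map.mp hx
    exact G.x_mem_US (hl e he) _
  induction l with
  | nil => exact ⟨0, by simp [G.full.x_zero]⟩
  | cons a l ih =>
    obtain ⟨z, hz⟩ := ih fun e he => hl e (List.mem_cons_of_mem _ he)
    set P := (l.map fun e => G.full.x e.1 (f e)).prod with hP
    set Q := (l.map fun e => G.full.x e.1 (g e)).prod with hQ
    have hPm : P ∈ G.US K (qs T) := list_prod_mem fun x hx => by
      obtain ⟨e, he, rfl⟩ := List.mem_map.mp hx
      exact G.x_mem_US (hl e (List.mem_cons_of_mem _ he)) _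
    have ha := hl a List.mem_cons_self
    have hc : ∀ (v : GL D.Idx K), v ∈ G.US K (qs T) → ∀ w, Commute v (G.full.x (top D) w) :=
      fun v hv w => top_comm G E.frame (qs_le_pos G E.frame hv) w
    set γ := Cc G a.1 P * g a
    have h1 : P * G.full.x a.1 (g a) = G.full.x a.1 (g a) * P * G.full.x (top D) γ := by
      rw [mul_assoc _ P, (hc P hPm γ).eq, ← mul_assoc, ← cc_spec G E.frame ha hPm (g a)]
      group
    have hQm : Q ∈ G.US K (qs T) := list_prod_mem fun x hx => by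
      obtain ⟨e, he, rfl⟩ := List.mem_map.mp hx
      exact G.x_mem_US (hl e (List.mem_cons_of_mem _ he)) _
    refine ⟨z - γ, ?_⟩
    simp only [List.map_cons, List.prod_cons]
    rw [hz, ← G.full.x_add a.1 (f a) (g a), ← hP, ← hQ,
      show G.full.x a.1 (f a) * P * (G.full.x a.1 (g a) * Q) =
        G.full.x a.1 (f a) * (P * G.full.x a.1 (g a)) * Q by group, h1,
      show G.full.x a.1 (f a) * (G.full.x a.1 (g a) * P * G.full.x (top D) γ) * Q *
          G.full.x (top D) (z - γ) = G.full.x a.1 (f a) * G.full.x a.1 (g a) * P *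
            (G.full.x (top D) γ * Q) * G.full.x (top D) (z - γ) by group,
      ← (hc Q hQm γ).eq, show G.full.x a.1 (f a) * G.full.x a.1 (g a) * P *
          (Q * G.full.x (top D) γ) * G.full.x (top D) (z - γ) =
        G.full.x a.1 (f a) * G.full.x a.1 (g a) * P * Q *
          (G.full.x (top D) γ * G.full.x (top D) (z - γ)) by group, G.full.x_add _ γ,
      add_sub_cancel]
    group

theorem qProd_eq (u : GL D.Idx K) : qProd G qo u =
    (qo.flatten.map fun e => G.full.x e.1 (-(e.2.2 : K) * Cc G e.2.1 u)).prod := by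
  simp [qProd, List.prod_flatten, List.map_flatten, Function.comp_def]

theorem flat_qs : ∀ e ∈ qo.flatten, e.1 ∈ qs T ∧ e.2.1 ∈ qs T := fun e he => by
  obtain ⟨O, hO, he⟩ := List.mem_flatten.mp he
  exact ⟨((qo_spec E hqo).2.1 O hO).2 e he |>.1, ((qo_spec E hqo).2.1 O hO).2 e he |>.2.1⟩

theorem qProd_mem (u : GL D.Idx K) : qProd G qo u ∈ G.US K (qs T) := by
  rw [qProd_eq E hqo]
  exact (prod_add E hqo (fun e he => (flat_qs E hqo e he).1) _ 0).1

/-- An element of the radical is the product of its coordinates and an element of the highest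
root group. -/
theorem qform {u : GL D.Idx K} (hu : u ∈ G.US K (qs T)) :
    ∃ z, u = qProd G qo u * G.full.x (top D) z := by
  obtain ⟨hnd, hO, hcov⟩ := qo_spec E hqo
  have hflat := flat_qs E hqo
  have hlin : ∀ p q : GL D.Idx K, p ∈ G.US K (qs T) → q ∈ G.US K (qs T) →
      ∃ z, qProd G qo (p * q) = qProd G qo p * qProd G qo q * G.full.x (top D) z := by
    intro p q hp hq
    obtain ⟨z, hz⟩ := (prod_add E hqo (fun e he => (hflat e he).1)
      (fun e => -(e.2.2 : K) * Cc G e.2.1 p) fun e => -(e.2.2 : K) * Cc G e.2.1 q).2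
    refine ⟨z, ?_⟩
    rw [qProd_eq E hqo, qProd_eq E hqo, qProd_eq E hqo, ← hz]
    exact congrArg List.prod (List.map_congr_left fun e he => by
      rw [cc_mul G E.frame (hflat e he).2 hp hq, mul_add])
  have hone : qProd G qo (1 : GL D.Idx K) = 1 := by
    rw [qProd_eq E hqo]
    exact List.prod_eq_one fun x hx => by
      obtain ⟨e, -, rfl⟩ := List.mem_map.mp hx
      rw [cc_one G E.frame, mul_zero, G.full.x_zero]
  have hc : ∀ (v : GL D.Idx K), v ∈ G.US K (qs T) → ∀ w, Commute v (G.full.x (top D) w) :=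
    fun v hv w => top_comm G E.frame (qs_le_pos G E.frame hv) w
  induction hu using Subgroup.closure_induction with
  | mem u hu =>
    obtain ⟨s, hs, t, rfl⟩ := hu
    by_cases hst : s = top D
    · subst hst
      refine ⟨t, ?_⟩
      rw [qProd_eq E hqo, List.prod_eq_one fun x hx => ?_, one_mul]
      obtain ⟨e, he, rfl⟩ := List.mem_map.mp hx
      rw [cc_top G E.frame _ (qs_pos G E.frame (hflat e he).2), mul_zero, G.full.x_zero]
    obtain ⟨O, hOm, e, he, rfl⟩ := hcov s hs hst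
    have hef : e ∈ qo.flatten := List.mem_flatten.mpr ⟨O, hOm, he⟩
    refine ⟨0, ?_⟩
    rw [G.full.x_zero, mul_one, qProd_eq E hqo]
    obtain ⟨l₁, l₂, el⟩ := List.append_of_mem hef
    have hn := hnd
    rw [el, List.map_append, List.map_cons, List.nodup_append] at hn
    have h0 : ∀ l : List (ℕ × ℕ × ℤ), (∀ f ∈ l, f ∈ qo.flatten ∧ f.1 ≠ e.1) →
        (l.map fun f => G.full.x f.1 (-(f.2.2 : K) * Cc G f.2.1 (G.full.x e.1 t))).prod = 1 :=
      fun l hl => List.prod_eq_one fun x hx => by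
        obtain ⟨f, hf, rfl⟩ := List.mem_map.mp hx
        obtain ⟨hf1, hf2⟩ := hl f hf
        obtain ⟨O', hO', hf'⟩ := List.mem_flatten.mp hf1
        obtain ⟨-, hb, -, -, -, -, -, hcomm, -, -⟩ := (hO O' hO').2 f hf'
        have hneg : negR D f.2.1 ≠ e.1 := fun e' => by
          have := G.negR_pos (qs_pos G E.frame hb)
          rw [e'] at this
          exact this (qs_pos G E.frame (hflat e hef).1).2
        rw [cc_x G E.frame hb hs (hcomm e.1 hs (Ne.symm hf2)) hneg, mul_zero, G.full.x_zero]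
    rw [el, List.map_append, List.map_cons, List.prod_append, List.prod_cons,
      h0 l₁ (fun f hf => ⟨el ▸ List.mem_append_left _ hf, fun e' =>
        hn.2.2 _ (List.mem_map_of_mem hf) _ List.mem_cons_self e'⟩),
      h0 l₂ (fun f hf => ⟨el ▸ List.mem_append_right _ (List.mem_cons_of_mem _ hf), fun e' =>
        (List.nodup_cons.mp hn.2.1).1 (e' ▸ List.mem_map_of_mem hf)⟩)]
    obtain ⟨-, hb, -, -, hne, hN, hcomm, -, -, -⟩ := (hO O hOm).2 e he
    rw [cc_x_partner G E.frame hb hs hne hcomm, one_mul, mul_one]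
    refine congrArg (G.full.x _) ?_
    rcases hN with h | h <;> simp [h]
  | one => exact ⟨0, by rw [hone, G.full.x_zero, one_mul]⟩
  | mul p q hp hq ih1 ih2 =>
    obtain ⟨z₁, h1⟩ := ih1
    obtain ⟨z₂, h2⟩ := ih2
    obtain ⟨z, hz⟩ := hlin p q hp hq
    refine ⟨z₁ + z₂ - z, ?_⟩
    conv_lhs => rw [h1, h2]
    rw [hz, show qProd G qo p * G.full.x (top D) z₁ * (qProd G qo q * G.full.x (top D) z₂) =
        qProd G qo p * (G.full.x (top D) z₁ * qProd G qo q) * G.full.x (top D) z₂ by group,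
      ← (hc _ (qProd_mem E hqo q) z₁).eq]
    simp only [mul_assoc, G.full.x_add]
    congr 3
    ring
  | inv p hp ih =>
    obtain ⟨z₁, h1⟩ := ih
    obtain ⟨z, hz⟩ := hlin p⁻¹ p (inv_mem hp) hp
    rw [inv_mul_cancel, hone] at hz
    refine ⟨z - z₁, ?_⟩
    have e : qProd G qo p⁻¹ = (G.full.x (top D) z)⁻¹ * (qProd G qo p)⁻¹ := by
      rw [← _root_.mul_inv_rev]
      refine eq_inv_of_mul_eq_one_left ?_
      rw [← mul_assoc]
      exact hz.symm
    have hx := (hc _ (qProd_mem E hqo p) (z - z₁)).inv_left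
    conv_lhs => rw [h1]
    rw [e, _root_.mul_inv_rev, G.full.x_inv, G.full.x_inv, mul_assoc, hx.eq, ← mul_assoc,
      G.full.x_add]
    congr 2
    ring

theorem orbit_fix {u : GL D.Idx K} (hu : u ∈ G.US K (qs T)) (hfix : Φ.A u = u)
    {O : List (ℕ × ℕ × ℤ)} (hO : O ∈ qo) :
    (O.map fun e => G.full.x e.1 (-(e.2.2 : K) * Cc G e.2.1 u)).prod ∈ Φ.Fix := by
  classical
  obtain ⟨hnd, hspec⟩ := (qo_spec E hqo).2.1 O hO
  set g : ℕ × ℕ × ℤ → GL D.Idx K := fun e => G.full.x e.1 (-(e.2.2 : K) * Cc G e.2.1 u)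
  have hg : ∀ e, g e ∈ D.group K := fun e => G.x_mem_group _ _
  choose ε hε using fun e : {e // e ∈ O} => (hspec e.1 e.2).2.2.2.2.2.2.2.2.1
  refine ⟨list_prod_mem fun x hx => by
    obtain ⟨e, -, rfl⟩ := List.mem_map.mp hx
    exact hg e, ?_⟩
  have hstep : ∀ e : {e // e ∈ O}, Φ.A (g e.1) = g (ε e) := by
    intro e
    obtain ⟨h1, h2, -, -, hne, hN, hcomm, -, -, -⟩ := hspec e.1 e.2
    obtain ⟨h1', h2', -, -, hne', hN', hcomm', -, -, -⟩ := hspec (ε e) (hε e).1
    have hlt := (E.frame.closedQ.1 _ h1).1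
    have hxm : g e.1 ∈ G.US K (qs T) := G.x_mem_US h1 _
    have hc := E.cc_A h2 hxm
    have hc' := E.cc_A h2 hu
    rw [hfix] at hc'
    have hu' : Cc G e.1.2.1 (g e.1) = Cc G e.1.2.1 u := by
      rw [cc_x_partner G E.frame h2 h1 hne hcomm]
      rcases hN with h | h <;> simp [h]
    rw [hu', ← hc'] at hc
    have hs0 : ((mapAt m e.1.2.1).2.1 : K) ≠ 0 := by
      rcases (E.map_spec (E.frame.closedQ.1 _ h2).1).2.2.1 with h | h <;> simp [h]
    have hc2 := mul_left_cancel₀ hs0 hc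
    show Φ.A (G.full.x _ _) = G.full.x _ _
    rw [E.A_x hlt, ← (hε e).2.1]
    set v := ((mapAt m e.1.1).2.1 : K) * φ (-(e.1.2.2 : K) * Cc G e.1.2.1 u)
    rw [show g e.1 = G.full.x e.1.1 (-(e.1.2.2 : K) * Cc G e.1.2.1 u) from rfl, E.A_x hlt,
      ← (hε e).2.1, ← (hε e).2.2, cc_x_partner G E.frame h2' h1' hne' hcomm'] at hc2
    refine congrArg (G.full.x _) ?_
    rw [← hc2]
    rcases hN' with h | h <;> simp [h, v]
  have e0 : ∀ l : List {e // e ∈ O},
      Φ.A (l.map fun e => g e.1).prod = ((l.map ε).map g).prod := by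
    intro l
    induction l with
    | nil => simp [Φ.A_one]
    | cons a l ih =>
      simp only [List.map_cons, List.prod_cons]
      rw [Φ.A_mul (hg _) (list_prod_mem fun x hx => by
        obtain ⟨i, -, rfl⟩ := List.mem_map.mp hx
        exact hg _), hstep, ih]
  have hmap : O.map g = O.attach.map fun e => g e.1 := (List.attach_map_val ..).symm
  rw [hmap, e0, ← hmap]
  have hnd' : (O.attach.map ε).Nodup := by
    refine List.Nodup.of_map (fun e => e.1) ?_
    rw [List.map_map]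
    refine (List.nodup_map_iff_inj_on (List.nodup_attach.mpr (List.Nodup.of_map _ hnd))).mpr ?_
    intro a _ b _ hab
    simp only [Function.comp_apply, (hε a).2.1, (hε b).2.1] at hab
    have ha := (E.frame.closedQ.1 _ (hspec a.1 a.2).1).1
    have hb := (E.frame.closedQ.1 _ (hspec b.1 b.2).1).1
    have : (⟨a.1.1, ha⟩ : Fin D.nroots) = ⟨b.1.1, hb⟩ := Φ.π.injective (Fin.ext (by
      rw [E.hπ, E.hπ]; exact hab))
    exact Subtype.ext (List.inj_on_of_nodup_map hnd a.2 b.2 (congrArg Fin.val this))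
  have hperm : (O.attach.map ε).Perm O :=
    (List.subperm_of_subset hnd' fun e he => by
      obtain ⟨a, -, rfl⟩ := List.mem_map.mp he
      exact (hε a).1).perm_of_length_le (by simp)
  refine (hperm.map g).prod_eq' (List.pairwise_map.mpr ?_)
  refine List.Pairwise.imp_of_mem (R := fun _ _ => True) (fun {a b} ha hb _ => ?_)
    (List.pairwise_of_forall fun _ _ => trivial)
  have ha' := hperm.mem_iff.mp ha
  have hb' := hperm.mem_iff.mp hb
  rcases (hspec a ha').2.2.2.2.2.2.2.2.2 b hb' with h | h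
  · show _ * _ = _ * _
    simp only [g]
    rw [h, G.full.x_add, G.full.x_add, add_comm]
  · have h1 := E.frame.closedQ.1 _ (hspec a ha').1
    have h2 := E.frame.closedQ.1 _ (hspec b hb').1
    refine x_commute G E.frame h1.1 h2.1 h (fun e => ?_) _ _
    have := G.negR_pos h1
    rw [← e] at this
    exact this h2.2

/-- A fixed element of the radical with rational coordinates is rational. -/
theorem rational_of_coords {u : GL D.Idx K} (hu : u ∈ G.US K (qs T)) (hfix : u ∈ Φ.Fix)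
    (h : ∀ a ∈ qs T, a ≠ top D → φ (Cc G a u) = Cc G a u) : glMap D φ u = u := by
  obtain ⟨z, hz⟩ := qform E hqo hu
  have hP : qProd G qo u ∈ Φ.Fix := by
    refine list_prod_mem fun x hx => ?_
    obtain ⟨O, hO, rfl⟩ := List.mem_map.mp hx
    exact orbit_fix E hqo hu hfix.2 hO
  have hzf : G.full.x (top D) z ∈ Φ.Fix := by
    have := mul_mem (inv_mem hP) hfix
    have e : G.full.x (top D) z = (qProd G qo u)⁻¹ * u := eq_inv_mul_iff_mul_eq.mpr hz.symm
    rwa [e]
  conv_lhs => rw [hz]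
  conv_rhs => rw [hz]
  rw [map_mul, G.glMap_x, E.param_fixed E.frame.top_lt E.top_fix hzf, qProd_eq E hqo,
    map_list_prod, List.map_map]
  refine congrArg (· * _) (congrArg List.prod (List.map_congr_left fun e he => ?_))
  obtain ⟨O, hO, he'⟩ := List.mem_flatten.mp he
  obtain ⟨-, h2, -, h2', -⟩ := ((qo_spec E hqo).2.1 O hO).2 e he'
  simp [G.glMap_x, map_mul, map_neg, h e.2.1 h2 h2']

end Qo

end Env

end SubfieldTw

end CfsgLib.Chev
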