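import Cfsg.Agent.Chev.SubfieldTw.Top

/-!
A non-rational element of the radical of the highest root in an overgroup of the rational points.
-/

set_option autoImplicit false
set_option linter.unusedSectionVars false

namespace CfsgLib.Chev

open Cfsg.Lie Matrix
open scoped MatrixGroups

namespace SubfieldTw

open Tab SubfieldMax

variable {D : ChevalleyDatum} {T : Tab D} {G : T.Good} {K : Type*} [Field K] [Finite K]
  {Φ : G.Graph K} {φ : K →+* K} {m : List (ℕ × ℤ × ℕ)} {orbs : List (List ℕ)}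

/-- The checks used in the extraction. -/
structure Checks (T : Tab D) (m : List (ℕ × ℤ × ℕ)) (orbs : List (List ℕ)) (C : Data)
    (lv : List (List ℕ)) : Prop where
  normal : chkNormal T = true
  qo : chkQo T m C.qo = true
  b : chkB T m C = true
  r : chkR T C = true
  chain : chkChain T m C = true
  last : chkLast m C = true
  move : chkMove T m orbs C lv = true
  stp : chkStp orbs C = true

/-- The linear form of a step. -/
noncomputable def expSum (G : T.Good) (rs : List ℕ) (a : ℕ) (u : GL D.Idx K) : K :=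
  ((expand T rs a).map fun p => (p.2 : K) * Cc G p.1 u).sum

/-- In each step the coefficient at the next index becomes non-rational. -/
def StepsOK (G : T.Good) (Φ : G.Graph K) (φ : K →+* K) (C : Data) : Prop :=
  ∀ j, j < C.stp.length → ∀ u ∈ G.US K (qs T), u ∈ Φ.Fix →
    (∀ i < j, φ (Cc G (C.ch.getD i 0) u) = Cc G (C.ch.getD i 0) u) →
    φ (Cc G (C.ch.getD j 0) u) ≠ Cc G (C.ch.getD j 0) u →
    φ (expSum G ((C.stp.getD j []).map D.simple) (C.ch.getD (j + 1) 0) u) ≠
      expSum G ((C.stp.getD j []).map D.simple) (C.ch.getD (j + 1) 0) u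

namespace Env

variable (E : Env Φ φ m orbs)
include E

theorem normal_qs (hn : chkNormal T = true) {v : GL D.Idx K} (hv : v ∈ G.US K {r | IsPos D r})
    {q : GL D.Idx K} (hq : q ∈ G.US K (qs T)) : v * q * v⁻¹ ∈ G.US K (qs T) := by
  simp only [chkNormal, allBelow_iff, Bool.or_eq_true, Bool.not_eq_true', Bool.and_eq_true,
    List.all_eq_true] at hn
  have hgen : ∀ r, IsPos D r → ∀ t, ∀ q ∈ G.US K (qs T),
      G.full.x r t * q * (G.full.x r t)⁻¹ ∈ G.US K (qs T) := by
    intro r hr t q hq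
    induction hq using Subgroup.closure_induction with
    | mem q hq =>
      obtain ⟨s, hs, w, rfl⟩ := hq
      have hsp := E.frame.closedQ.1 s hs
      rcases eq_or_ne r s with rfl | hne
      · rw [G.full.x_add, add_comm, ← G.full.x_add, mul_inv_cancel_right]
        exact G.x_mem_US hs _
      have hn' := (hn r hr.1).resolve_left (fun e => by
        rw [← Bool.not_eq_true, Nat.ble_eq] at e
        exact e hr.2)
      have hc := ((hn' s hsp.1).resolve_left (by
        rw [show inQ T s = true from hs]; simp)).2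
      have hneg : r ≠ negR D s := fun e => by
        have := G.negR_pos hsp
        rw [← e] at this
        exact this hr.2
      have e := G.full.x_comm hsp.1 hr.1 hne hneg w t
      rw [G.full.cert.commWord_eq hsp.1 hr.1] at e
      set P := ((rhsWord (T.commT s r) w t).map fun p => G.full.x p.1 p.2).prod with hP
      have hPm : P ∈ G.US K (qs T) := list_prod_mem fun y hy => by
        simp only [rhsWord, List.map_map, List.mem_map] at hy
        obtain ⟨c, hc', rfl⟩ := hy
        exact G.x_mem_US (hc c hc') _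
      rw [show G.full.x r t * G.full.x s w * (G.full.x r t)⁻¹ =
        G.full.x s w * G.full.x r t * P * (G.full.x r t)⁻¹ by rw [e],
        show G.full.x s w * G.full.x r t * P * (G.full.x r t)⁻¹ =
          G.full.x s w * (G.full.x r t * P * (G.full.x r t)⁻¹) by group]
      refine mul_mem (G.x_mem_US hs _) ?_
      -- the commutator terms are again in the radical and commute with the root element
      have e2 := G.full.x_comm hsp.1 hr.1 hne hneg w (-t)
      rw [G.full.cert.commWord_eq hsp.1 hr.1] at e2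
      set P' := ((rhsWord (T.commT s r) w (-t)).map fun p => G.full.x p.1 p.2).prod with hP'
      have hPm' : P' ∈ G.US K (qs T) := list_prod_mem fun y hy => by
        simp only [rhsWord, List.map_map, List.mem_map] at hy
        obtain ⟨c, hc', rfl⟩ := hy
        exact G.x_mem_US (hc c hc') _
      have h3 : G.full.x r t * P * (G.full.x r t)⁻¹ = P'⁻¹ := by
        rw [eq_inv_iff_mul_eq_one, ← G.full.x_inv r t] at *
        have h4 : G.full.x s w = G.full.x r t * ((G.full.x r t)⁻¹ * G.full.x s w) := by group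
        rw [e2] at h4
        have h5 : G.full.x r t * G.full.x s w * ((G.full.x r t)⁻¹ * P') = G.full.x s w := by
          conv_rhs => rw [h4]
          group
        rw [e] at h5
        have h6 : G.full.x s w * (G.full.x r t * P * (G.full.x r t)⁻¹ * P') = G.full.x s w := by
          conv_rhs => rw [← h5]
          group
        exact mul_left_cancel (h6.trans (mul_one _).symm)
      rw [h3]
      exact inv_mem hPm'
    | one => rw [mul_one, mul_inv_cancel]; exact one_mem _
    | mul a b _ _ iha ihb =>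
      rw [show G.full.x r t * (a * b) * (G.full.x r t)⁻¹ =
        (G.full.x r t * a * (G.full.x r t)⁻¹) * (G.full.x r t * b * (G.full.x r t)⁻¹) by group]
      exact mul_mem iha ihb
    | inv a _ iha =>
      rw [show G.full.x r t * a⁻¹ * (G.full.x r t)⁻¹ =
        (G.full.x r t * a * (G.full.x r t)⁻¹)⁻¹ by group]
      exact inv_mem iha
  induction hv using Subgroup.closure_induction'' generalizing q with
  | mem v hv =>
    obtain ⟨r, hr, t, rfl⟩ := hv
    exact hgen r hr t q hq
  | inv_mem v hv =>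
    obtain ⟨r, hr, t, rfl⟩ := hv
    rw [G.full.x_inv]
    exact hgen r hr _ q hq
  | one => simpa using hq
  | mul a b _ _ iha ihb =>
    rw [show a * b * q * (a * b)⁻¹ = a * (b * q * b⁻¹) * a⁻¹ by group]
    exact iha (ihb hq)

theorem ch_qs {C : Data} {lv : List (List ℕ)} (K' : Checks T m orbs C lv) :
    (∀ r ∈ C.ch, r ∈ qs T) ∧ ∀ s ∈ qs T, s ≠ top D → inFixOrb m C.ch s = true := by
  have h := K'.chain
  simp only [chkChain, Bool.and_eq_true, List.all_eq_true, allBelow_iff, Bool.or_eq_true,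
    Bool.not_eq_true', Nat.beq_eq] at h
  refine ⟨fun r hr => (h.1.1.1 r hr).1, fun s hs hne => ?_⟩
  rcases h.1.1.2 s (E.frame.closedQ.1 s hs).1 with (e | e) | e
  · rw [show inQ T s = true from hs] at e; simp at e
  · exact absurd e hne
  · exact e

/-- A non-rational fixed element of the radical has a non-rational coordinate in the chain. -/
theorem exists_chain {C : Data} {lv : List (List ℕ)} (K' : Checks T m orbs C lv)
    {u : GL D.Idx K} (hu : u ∈ G.US K (qs T)) (hf : u ∈ Φ.Fix) (hne : glMap D φ u ≠ u) :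
    ∃ k, k < C.ch.length ∧ φ (Cc G (C.ch.getD k 0) u) ≠ Cc G (C.ch.getD k 0) u := by
  obtain ⟨hch, hcov⟩ := E.ch_qs K'
  by_contra hno
  refine hne (E.rational_of_coords K'.qo hu hf fun a ha hat => ?_)
  refine E.inFixOrb_rational ha (hcov a ha hat) hch hu hf.2 fun r hr => ?_
  obtain ⟨k, hk, rfl⟩ := List.getElem_of_mem hr
  by_contra h
  exact hno ⟨k, hk, by rw [List.getD_eq_getElem _ _ hk]; exact h⟩

theorem qs_top : top D ∈ qs T := (inQ_iff T).mpr ⟨top_isPos G E.frame, Or.inl rfl⟩

theorem lo_fix : piN m (negR D (top D)) = negR D (top D) := by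
  have h1 := E.hπ (negF ⟨top D, E.frame.top_lt⟩)
  rw [Φ.neg, show Φ.π ⟨top D, E.frame.top_lt⟩ = ⟨top D, E.frame.top_lt⟩ from
    Fin.ext (by rw [E.hπ]; exact E.top_fix)] at h1
  exact h1.symm

theorem neg_fix {r : ℕ} (hr : r < D.nroots) (h : piN m r = r) :
    piN m (negR D r) = negR D r := by
  have h1 := E.hπ (negF ⟨r, hr⟩)
  rw [Φ.neg, show Φ.π ⟨r, hr⟩ = ⟨r, hr⟩ from Fin.ext (by rw [E.hπ]; exact h)] at h1
  exact h1.symm

/-- Moving a non-rational coordinate to an index orthogonal to `b`. -/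
theorem move {C : Data} {lv : List (List ℕ)} (K' : Checks T m orbs C lv)
    (H : Subgroup (GL D.Idx K)) (hM : ∀ g, Rat1 E g → g ∈ H)
    {q : GL D.Idx K} (hq : q ∈ G.US K (qs T)) (hqf : q ∈ Φ.Fix) (hne : glMap D φ q ≠ q)
    {c : K} (hc : c ≠ 0) (hcf : φ c = c)
    (hY : q * G.full.x (negR D (top D)) c * q⁻¹ ∈ H) :
    ∃ q ∈ G.US K (qs T), q ∈ Φ.Fix ∧ φ (Cc G C.aa q) ≠ Cc G C.aa q ∧ ∃ c : K, c ≠ 0 ∧ φ c = c ∧
      q * G.full.x (negR D (top D)) c * q⁻¹ ∈ H := by
  obtain ⟨k, hk, hirr⟩ := E.exists_chain K' hq hqf hne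
  have hch := (E.ch_qs K').1
  have hmv := K'.move
  simp only [chkMove, Bool.and_eq_true, allBelow_iff, decide_eq_true_eq, memB_iff] at hmv
  obtain ⟨hL, hmem⟩ := hmv.2 k hk
  simp only [chkLevi, Bool.and_eq_true, List.all_eq_true, Nat.blt_eq, Nat.beq_eq, allBelow_iff,
    Bool.or_eq_true, Bool.not_eq_true'] at hL
  obtain ⟨⟨hL1, hL2⟩, hL3⟩ := hL
  obtain ⟨L', hnT, hpw, hval⟩ := E.exists_word_fin hL1
  set w := L'.flatMap E.Z.word
  set n := E.Z.nT L'
  have hak : C.ch.getD k 0 ∈ qs T := hch _ (by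
    rw [List.getD_eq_getElem _ _ hk]; exact List.getElem_mem _)
  set a := C.ch.getD k 0
  have halt := (E.frame.closedQ.1 a hak).1
  have hwt : G.full.pw w ⟨top D, E.frame.top_lt⟩ = ⟨top D, E.frame.top_lt⟩ :=
    Fin.ext (by rw [← hpw]; exact (hval _).trans hL2)
  obtain ⟨η, hη, -, hx⟩ := nw_col G (K := K) w ⟨a, halt⟩
  obtain ⟨η', hη', -, hx'⟩ := nw_col G (K := K) w ⟨top D, E.frame.top_lt⟩
  obtain ⟨η'', hη'', -, hx''⟩ := nw_col G (K := K) w (negF ⟨top D, E.frame.top_lt⟩)
  rw [hwt] at hx'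
  rw [show G.full.pw w (negF ⟨top D, E.frame.top_lt⟩) = negF ⟨top D, E.frame.top_lt⟩ by
    rw [G.negF_pw, hwt]] at hx''
  have ha' : (G.full.pw w ⟨a, halt⟩).val = T.wordT (flatW orbs (lv.getD k [])) a := by
    rw [← hpw]; exact hval _
  have hq' : n * q * n⁻¹ ∈ G.US K (qs T) := by
    refine G.conj_x_act (E.Z.nT_act L') (fun s hs => ?_) hq
    have hlt := (E.frame.closedQ.1 s hs).1
    refine ⟨hlt, ?_⟩
    show inQ T (E.Z.pwT L' ⟨s, hlt⟩).val = true
    rw [hval]
    exact (hL3 s hlt).resolve_left (by rw [show inQ T s = true from hs]; simp)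
  have hn : Rat1 E n := E.nT_rat L'
  have hnf := E.Z.le_fix hn.1
  refine ⟨n * q * n⁻¹, hq', mul_mem (mul_mem hnf hqf) (inv_mem hnf), fun hrat => hirr ?_,
    η'' * c, mul_ne_zero (left_ne_zero_of_mul_eq_one hη'') hc, ?_, ?_⟩
  · have haa : C.aa ∈ qs T := by
      have hb := K'.b
      simp only [chkB, Bool.and_eq_true] at hb
      exact hb.1.1.1.1.1.1.1.1.1.1.1.1.1.1.1.1.1.1.2
    have h1 := (E.orb_rational haa hmem hq' (mul_mem (mul_mem hnf hqf) (inv_mem hnf)).2).1.mpr hrat
    rw [← ha', cc_conj G E.frame hη hak (fun t => by rw [hnT]; exact hx t)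
      (fun t => by rw [hnT]; exact hx' t) hq, map_mul, map_mul,
      show φ η' = η' by rcases mul_self_eq_one_iff.mp hη' with e | e <;> simp [e],
      show φ η = η by rcases mul_self_eq_one_iff.mp hη with e | e <;> simp [e]] at h1
    exact mul_left_cancel₀
      (mul_ne_zero (left_ne_zero_of_mul_eq_one hη') (left_ne_zero_of_mul_eq_one hη)) h1
  · rw [map_mul, hcf,
      show φ η'' = η'' by rcases mul_self_eq_one_iff.mp hη'' with e | e <;> simp [e]]
  · have h := mul_mem (mul_mem (hM n hn) hY) (inv_mem (hM n hn))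
    have e : n * G.full.x (negR D (top D)) c * n⁻¹ = G.full.x (negR D (top D)) (η'' * c) := by
      rw [hnT]; exact hx'' c
    rw [show n * q * n⁻¹ * G.full.x (negR D (top D)) (η'' * c) * (n * q * n⁻¹)⁻¹ =
      n * (q * (n⁻¹ * G.full.x (negR D (top D)) (η'' * c) * n) * q⁻¹) * n⁻¹ by group, ← e,
      show n⁻¹ * (n * G.full.x (negR D (top D)) c * n⁻¹) * n = G.full.x (negR D (top D)) c by group]
    exact h

theorem conj_single {a r c : ℕ} {N : ℤ} (ha : a < D.nroots) (hr : r < D.nroots)
    (hne : r ≠ a) (hn : r ≠ negR D a) (hc : c < D.nroots) (hcr : r ≠ negR D c)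
    (h : T.commT a r = [(c, N, 1, 1)]) (h' : T.commT c r = [] ∨ T.commT r c = []) (t v : K) :
    G.full.x r v * G.full.x a t * (G.full.x r v)⁻¹ =
      G.full.x a t * G.full.x c (-(N : K) * t * v) := by
  have hcomm : Commute (G.full.x r v) (G.full.x c (-(N : K) * t * v)) := by
    rcases h' with h' | h'
    · exact (x_commute G E.frame hc hr h' hcr _ _).symm
    · refine x_commute G E.frame hr hc h' (fun e => hcr ?_) _ _
      rw [e, Cert.negR_negR hr]
  rw [x_conj G E.frame ha hr hne hn h t v, mul_assoc _ (G.full.x r v), hcomm.eq, ← mul_assoc,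
    mul_inv_cancel_right]

/-- A non-rational coordinate at an index orthogonal to `b` in an element of the subgroup. -/
theorem extract {C : Data} {lv : List (List ℕ)} (K' : Checks T m orbs C lv)
    (H : Subgroup (GL D.Idx K)) (hM : ∀ g, Rat1 E g → g ∈ H) (hH : H ≤ E.Z.G1)
    {q : GL D.Idx K} (hq : q ∈ G.US K (qs T)) (hqf : q ∈ Φ.Fix)
    (haq : φ (Cc G C.aa q) ≠ Cc G C.aa q) {c : K} (hc : c ≠ 0) (hcf : φ c = c)
    (hY : q * G.full.x (negR D (top D)) c * q⁻¹ ∈ H) :
    ∃ u ∈ H, u ∈ G.US K (qs T) ∧ u ∈ Φ.Fix ∧ φ (Cc G C.aa u) ≠ Cc G C.aa u := by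
  have hbs : ∀ {x y : ℕ}, Nat.beq x y = false → x ≠ y := fun hb' e' => by
    subst e'; simp at hb'
  have hB := K'.b
  simp only [chkB, fixR, Bool.and_eq_true, allBelow_iff, Bool.or_eq_true, Bool.not_eq_true',
    Nat.beq_eq, List.all_eq_true, List.any_eq_true, Nat.blt_eq, Nat.ble_eq,
    List.isEmpty_iff] at hB
  obtain ⟨⟨⟨⟨⟨⟨⟨⟨⟨⟨⟨⟨⟨⟨⟨⟨⟨⟨⟨⟨⟨⟨⟨⟨hbfix, hbbfix⟩, hbq⟩, hbbq⟩, hbt⟩, hbbt⟩, haaq⟩, haat⟩, hent⟩, hpos⟩,
    hm1⟩, hm2⟩, hm3⟩, n1⟩, n2⟩, n3⟩, n4⟩, n5⟩, n6⟩, e1⟩, e2⟩, e3⟩, n7⟩, n8⟩, e4⟩ := hB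
  have hbb : C.bb ∈ qs T := hbbq
  have hb : C.b ∈ qs T := hbq
  have haa : C.aa ∈ qs T := haaq
  have hbp := E.frame.closedQ.1 _ hb
  have hbbp := E.frame.closedQ.1 _ hbb
  have haap := E.frame.closedQ.1 _ haa
  have hnb := Cert.negR_lt (D := D) hbp.1
  have hlo := Cert.negR_lt (D := D) E.frame.top_lt
  obtain ⟨O, hO, e, he, he1, he2⟩ := hent
  obtain ⟨hnd, hspec, -⟩ := qo_spec E K'.qo
  obtain ⟨-, -, -, -, hne, hN, hcomm, -⟩ := (hspec O hO).2 e he
  rw [he1, he2] at hne hcomm
  -- normalise the coordinate at `b`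
  set lam : K := (e.2.2 : K) * Cc G C.bb q
  have hlam : φ lam = lam := by
    rw [map_mul, map_intCast, E.fixed_long hbb hbbfix hq hqf.2]
  set xb := G.full.x C.b lam with hxb
  have hxbq : xb ∈ G.US K (qs T) := G.x_mem_US hb _
  have hxbr : Rat1 E xb := E.x_long_rat hbp.1 hbfix hlam
  set q₁ := xb * q with hq₁
  have hq₁m : q₁ ∈ G.US K (qs T) := mul_mem hxbq hq
  have hq₁f : q₁ ∈ Φ.Fix := mul_mem (E.x_fixed hbp.1 hbfix hlam) hqf
  have hC0 : Cc G C.bb q₁ = 0 := by
    rw [hq₁, cc_mul G E.frame hbb hxbq hq, hxb, cc_x_partner G E.frame hbb hb hne hcomm]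
    rcases hN with h | h <;> simp [lam, h]
  have hnaab : negR D C.aa ≠ C.b := fun h => by
    have := G.negR_pos haap
    rw [h] at this
    exact this hbp.2
  have hCa : Cc G C.aa q₁ = Cc G C.aa q := by
    rw [hq₁, cc_mul G E.frame haa hxbq hq, hxb, cc_x G E.frame haa hb e2 hnaab, zero_add]
  have hY₁ : q₁ * G.full.x (negR D (top D)) c * q₁⁻¹ ∈ H := by
    rw [hq₁, show xb * q * G.full.x (negR D (top D)) c * (xb * q)⁻¹ =
      xb * (q * G.full.x (negR D (top D)) c * q⁻¹) * xb⁻¹ by group]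
    exact mul_mem (mul_mem (hM _ hxbr) hY) (inv_mem (hM _ hxbr))
  clear_value q₁
  clear hq₁
  -- the conjugate of the root group of the complement
  have hsp := fun (a : ℕ) (ha : a ∈ qs T) (t : K) => cc_spec G E.frame ha hq₁m t
  have hsp' := fun (a : ℕ) (ha : a ∈ qs T) (t : K) => cc_spec G E.frame ha (inv_mem hq₁m) t
  obtain ⟨c1, N1, hm1', hc1, hN1⟩ : ∃ (c1 : ℕ) (N1 : ℤ),
      T.commT C.bb (negR D (top D)) = [(c1, N1, 1, 1)] ∧ c1 = negR D C.b ∧ N1.natAbs = 1 := by
    revert hm1
    split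
    · rename_i c1 N1 h
      intro h'
      simp only [Bool.and_eq_true, Nat.beq_eq, decide_eq_true_eq] at h'
      exact ⟨c1, N1, h, h'⟩
    · intro h'; simp at h'
  obtain ⟨c2, N2, hm2', hc2, hN2⟩ : ∃ (c2 : ℕ) (N2 : ℤ),
      T.commT (top D) (negR D C.b) = [(c2, N2, 1, 1)] ∧ c2 = C.bb ∧ N2.natAbs = 1 := by
    revert hm2
    split
    · rename_i c2 N2 h
      intro h'
      simp only [Bool.and_eq_true, Nat.beq_eq, decide_eq_true_eq] at h'
      exact ⟨c2, N2, h, h'⟩
    · intro h'; simp at h'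
  obtain ⟨c3, N3, hm3', hc3, hN3⟩ : ∃ (c3 : ℕ) (N3 : ℤ),
      T.commT C.bb C.b = [(c3, N3, 1, 1)] ∧ c3 = top D ∧ N3.natAbs = 1 := by
    revert hm3
    split
    · rename_i c3 N3 h
      intro h'
      simp only [Bool.and_eq_true, Nat.beq_eq, decide_eq_true_eq] at h'
      exact ⟨c3, N3, h, h'⟩
    · intro h'; simp at h'
  subst hc1; subst hc2; subst hc3
  have hunit : ∀ N : ℤ, N.natAbs = 1 → (N : K) ≠ 0 ∧ φ (N : K) = N := fun N hN => by
    refine ⟨?_, map_intCast φ N⟩
    rcases Int.natAbs_eq_iff.mp hN with h | h <;> simp [h]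
  set δ : K := -(N1 : K) * c with hδ
  have hδf : φ δ = δ := by rw [hδ, map_mul, map_neg, map_intCast, hcf]
  have hδ0 : δ ≠ 0 := mul_ne_zero (neg_ne_zero.mpr (hunit N1 hN1).1) hc
  set X := G.full.x (negR D (top D)) c
  set xnb := G.full.x (negR D C.b) δ with hxnb
  have hX1 : X * G.full.x C.bb 1 * X⁻¹ = G.full.x C.bb 1 * xnb := by
    rw [E.conj_single hbbp.1 hlo (hbs n1).symm (fun h => hbs hbbt ?_) hnb (hbs n8) hm1' (Or.inl e4)]
    · simp [hxnb, δ]
    · have := congrArg (negR D) h
      rw [Cert.negR_negR E.frame.top_lt, Cert.negR_negR hbbp.1] at this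
      exact this.symm
  have hfix1 : q₁ * G.full.x C.bb 1 * q₁⁻¹ = G.full.x C.bb 1 := by
    rw [hsp _ hbb, hC0, zero_mul, G.full.x_zero, mul_one]
  have hfix2 : q₁⁻¹ * G.full.x C.bb 1 * q₁⁻¹⁻¹ = G.full.x C.bb 1 := by
    rw [hsp' _ hbb, cc_inv G E.frame hbb hq₁m, hC0, neg_zero, zero_mul, G.full.x_zero, mul_one]
  have hbbr : Rat1 E (G.full.x C.bb (1 : K)) := E.x_long_rat hbbp.1 hbbfix (map_one φ)
  have hW : q₁ * xnb * q₁⁻¹ ∈ H := by
    have h := mul_mem (inv_mem (hM _ hbbr))
      (mul_mem (mul_mem hY₁ (hM _ hbbr)) (inv_mem hY₁))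
    rw [show q₁ * X * q₁⁻¹ * G.full.x C.bb 1 * (q₁ * X * q₁⁻¹)⁻¹ =
        q₁ * (X * (q₁⁻¹ * G.full.x C.bb 1 * q₁⁻¹⁻¹) * X⁻¹) * q₁⁻¹ by group, hfix2, hX1,
      show q₁ * (G.full.x C.bb 1 * xnb) * q₁⁻¹ =
        (q₁ * G.full.x C.bb 1 * q₁⁻¹) * (q₁ * xnb * q₁⁻¹) by group, hfix1,
      inv_mul_cancel_left] at h
    exact h
  set v := xnb⁻¹ * (q₁ * xnb * q₁⁻¹) with hv
  have hvH : v ∈ H := mul_mem (inv_mem (hM _ (E.x_long_rat hnb (E.neg_fix hbp.1 hbfix) hδf))) hW
  -- it is in the positive unipotent subgroup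
  have hq₁S : q₁ ∈ G.US K {s | s ∈ qs T ∧ s ≠ C.b} := by
    obtain ⟨z, hz⟩ := qform E K'.qo hq₁m
    rw [hz, qProd_eq E K'.qo]
    refine mul_mem (list_prod_mem fun y hy => ?_)
      (G.x_mem_US (S := {s | s ∈ qs T ∧ s ≠ C.b}) ⟨E.qs_top, fun h => hbs hbt h.symm⟩ _)
    obtain ⟨f, hf, rfl⟩ := List.mem_map.mp hy
    by_cases hfb : f.1 = C.b
    · have : f = e := List.inj_on_of_nodup_map hnd hf (List.mem_flatten.mpr ⟨O, hO, he⟩)
        (hfb.trans he1.symm)
      rw [this, he2, hC0, mul_zero, G.full.x_zero]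
      exact one_mem _
    · exact G.x_mem_US (S := {s | s ∈ qs T ∧ s ≠ C.b}) ⟨(flat_qs E K'.qo f hf).1, hfb⟩ _
  have hvU : v ∈ G.US K {r | IsPos D r} := by
    have hconj : ∀ p ∈ G.US K {s | s ∈ qs T ∧ s ≠ C.b}, xnb⁻¹ * p * xnb ∈
        G.US K {r | IsPos D r} := by
      intro p hp
      induction hp using Subgroup.closure_induction with
      | mem p hp =>
        obtain ⟨s, ⟨hs, hsb⟩, t, rfl⟩ := hp
        have hsp0 := E.frame.closedQ.1 s hs
        have hsn : s ≠ negR D C.b := fun h => by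
          have := G.negR_pos hbp
          rw [← h] at this
          exact this hsp0.2
        have hsn' : s ≠ negR D (negR D C.b) := by rwa [Cert.negR_negR hbp.1]
        have h := G.full.x_comm hnb hsp0.1 hsn hsn' δ t
        rw [G.full.cert.commWord_eq hnb hsp0.1] at h
        rw [show xnb⁻¹ * G.full.x s t * xnb = xnb⁻¹ * (G.full.x s t * xnb) by group, h, mul_assoc,
          inv_mul_cancel_left]
        refine mul_mem (G.x_mem_US (S := {r | IsPos D r}) hsp0 _) (list_prod_mem fun y hy => ?_)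
        simp only [rhsWord, List.map_map, List.mem_map] at hy
        obtain ⟨d, hd, rfl⟩ := hy
        refine G.x_mem_US (S := {r | IsPos D r}) ?_ _
        refine ((hpos s hsp0.1).resolve_left ?_) d hd
        rintro (h' | h')
        · rw [show inQ T s = true from hs] at h'; simp at h'
        · exact hsb h'
      | one => rw [mul_one, inv_mul_cancel]; exact one_mem _
      | mul a b _ _ iha ihb =>
        rw [show xnb⁻¹ * (a * b) * xnb = (xnb⁻¹ * a * xnb) * (xnb⁻¹ * b * xnb) by group]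
        exact mul_mem iha ihb
      | inv a _ iha =>
        rw [show xnb⁻¹ * a⁻¹ * xnb = (xnb⁻¹ * a * xnb)⁻¹ by group]
        exact inv_mem iha
    rw [hv, show xnb⁻¹ * (q₁ * xnb * q₁⁻¹) = (xnb⁻¹ * q₁ * xnb) * q₁⁻¹ by group]
    exact mul_mem (hconj _ hq₁S) (inv_mem (qs_le_pos G E.frame hq₁m))
  set u := v * G.full.x C.b 1 * v⁻¹ with hu
  have huH : u ∈ H := mul_mem (mul_mem hvH (hM _ (E.x_long_rat hbp.1 hbfix (map_one φ))))
    (inv_mem hvH)
  refine ⟨u, huH, E.normal_qs K'.normal hvU (G.x_mem_US hb _), E.Z.le_fix (hH huH), ?_⟩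
  -- the coordinate at the orthogonal index
  set a := C.aa
  set Ca := Cc G a q₁
  have han : negR D C.b ≠ negR D a := fun h => hbs n4 (by
    have := congrArg (negR D) h
    rw [Cert.negR_negR hbp.1, Cert.negR_negR haap.1] at this
    exact this.symm)
  have hc_nb : ∀ t, Commute (G.full.x a (1 : K)) (G.full.x (negR D C.b) t) := fun t =>
    x_commute G E.frame haap.1 hnb e1 han _ _
  set γ : K := (N2 : K) * -Ca * δ
  have hvinv : v⁻¹ * G.full.x a 1 * v = G.full.x a 1 * G.full.x C.bb γ := by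
    rw [hv, show (xnb⁻¹ * (q₁ * xnb * q₁⁻¹))⁻¹ * G.full.x a 1 * (xnb⁻¹ * (q₁ * xnb * q₁⁻¹)) =
      q₁ * (xnb⁻¹ * (q₁⁻¹ * (xnb * G.full.x a 1 * xnb⁻¹) * q₁⁻¹⁻¹) * xnb) * q₁⁻¹ by group,
      ← (hc_nb δ).eq, mul_inv_cancel_right, hsp' _ haa, cc_inv G E.frame haa hq₁m, mul_one,
      show xnb⁻¹ * (G.full.x a 1 * G.full.x (top D) (-Ca)) * xnb =
        (xnb⁻¹ * G.full.x a 1) * (G.full.x (top D) (-Ca)) * xnb by group,
      hxnb, G.full.x_inv, ← (hc_nb (-δ)).eq, mul_assoc (G.full.x a 1), mul_assoc (G.full.x a 1),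
      show G.full.x (negR D C.b) δ = (G.full.x (negR D C.b) (-δ))⁻¹ by
        rw [G.full.x_inv, neg_neg],
      E.conj_single E.frame.top_lt hnb (hbs n3) (fun h => hbs n7 h.symm) hbbp.1
        (fun h => ?_) hm2' (Or.inl e3),
      show q₁ * (G.full.x a 1 * (G.full.x (top D) (-Ca) *
          G.full.x C.bb (-(N2 : K) * -Ca * -δ))) * q₁⁻¹ =
        (q₁ * G.full.x a 1 * q₁⁻¹) * ((q₁ * G.full.x (top D) (-Ca) * q₁⁻¹) *
          (q₁ * G.full.x C.bb (-(N2 : K) * -Ca * -δ) * q₁⁻¹)) by group,
      hsp _ haa, hsp _ hbb, hC0, zero_mul, G.full.x_zero, mul_one,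
      top_comm' G E.frame (qs_le_pos G E.frame hq₁m), mul_one, mul_assoc, ← mul_assoc
        (G.full.x (top D) Ca), G.full.x_add, add_neg_cancel, G.full.x_zero, one_mul]
    · simp [γ]
    · have := congrArg (negR D) h
      rw [Cert.negR_negR hbbp.1, Cert.negR_negR hbp.1] at this
      exact hne this
  have han' : C.b ≠ negR D a := fun h => hnaab h.symm
  have hbconj : G.full.x C.b 1 * G.full.x C.bb γ * (G.full.x C.b 1)⁻¹ =
      G.full.x C.bb γ * G.full.x (top D) (-(N3 : K) * γ) := by
    rw [E.conj_single hbbp.1 hbp.1 hne (fun h => ?_) E.frame.top_lt (fun h => ?_) hm3'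
      (Or.inr (E.frame.comm_top _ hbp (hbs hbt)).1), mul_one]
    · have := G.negR_pos hbbp
      rw [← h] at this
      exact this hbp.2
    · have := G.negR_pos (top_isPos G E.frame)
      rw [← h] at this
      exact this hbp.2
  have hCu : Cc G a u = -(N3 : K) * γ := by
    refine cc_eq G E.frame ?_
    have hback : v * (G.full.x a 1 * G.full.x C.bb γ) * v⁻¹ = G.full.x a 1 := by
      rw [← hvinv]; group
    rw [hu, show v * G.full.x C.b 1 * v⁻¹ * G.full.x a 1 * (v * G.full.x C.b 1 * v⁻¹)⁻¹ =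
      v * (G.full.x C.b 1 * (v⁻¹ * G.full.x a 1 * v) * (G.full.x C.b 1)⁻¹) * v⁻¹ by group, hvinv,
      show G.full.x C.b 1 * (G.full.x a 1 * G.full.x C.bb γ) * (G.full.x C.b 1)⁻¹ =
        (G.full.x C.b 1 * G.full.x a 1 * (G.full.x C.b 1)⁻¹) *
          (G.full.x C.b 1 * G.full.x C.bb γ * (G.full.x C.b 1)⁻¹) by group,
      ← (x_commute G E.frame haap.1 hbp.1 e2 han' 1 1).eq, mul_inv_cancel_right, hbconj,
      show v * (G.full.x a 1 * (G.full.x C.bb γ * G.full.x (top D) (-(N3 : K) * γ))) * v⁻¹ =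
        (v * (G.full.x a 1 * G.full.x C.bb γ) * v⁻¹) *
          (v * G.full.x (top D) (-(N3 : K) * γ) * v⁻¹) by group, hback,
      top_comm' G E.frame hvU]
  intro h
  refine haq ?_
  rw [← hCa]
  rw [hCu, map_mul, map_neg, map_intCast] at h
  have h1 := mul_left_cancel₀ (neg_ne_zero.mpr (hunit N3 hN3).1) h
  rw [map_mul, map_mul, map_neg, map_intCast, hδf] at h1
  exact neg_injective (mul_left_cancel₀ (hunit N2 hN2).1 (mul_right_cancel₀ hδ0 h1))

theorem cc_conj_root {a r : ℕ} (ha : a ∈ qs T) (hr : notQ T r = true) {u : GL D.Idx K}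
    (hu : u ∈ G.US K (qs T)) :
    (T.commT a r = [] → Cc G a (G.full.x r 1 * u * (G.full.x r 1)⁻¹) = Cc G a u) ∧
    ∀ c N, T.commT a r = [(c, N, 1, 1)] → c ∈ qs T → T.commT c r = [] →
      Cc G a (G.full.x r 1 * u * (G.full.x r 1)⁻¹) = Cc G a u + (N : K) * Cc G c u := by
  obtain ⟨hrp, hrq⟩ := (notQ_iff T).mp hr
  have hap := E.frame.closedQ.1 a ha
  have hne : r ≠ a := fun h => hrq (h ▸ ha)
  have hn : r ≠ negR D a := fun h => by
    have := G.negR_pos hap
    rw [← h] at this
    exact this hrp.2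
  set R := G.full.x r (1 : K) with hR
  have hRU : R ∈ G.US K {s | IsPos D s} := G.x_mem_US (S := {s | IsPos D s}) hrp _
  refine ⟨fun h => cc_eq G E.frame ?_, fun c N h hc hcr => cc_eq G E.frame ?_⟩
  · have hcomm := x_commute G E.frame hap.1 hrp.1 h hn (1 : K) (1 : K)
    rw [show R * u * R⁻¹ * G.full.x a 1 * (R * u * R⁻¹)⁻¹ =
        R * (u * (R⁻¹ * G.full.x a 1 * R) * u⁻¹) * R⁻¹ by group,
      show R⁻¹ * G.full.x a 1 * R = G.full.x a 1 by
        rw [mul_assoc, hcomm.eq, inv_mul_cancel_left],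
      cc_spec G E.frame ha hu, mul_one,
      show R * (G.full.x a 1 * G.full.x (top D) (Cc G a u)) * R⁻¹ =
        (R * G.full.x a 1 * R⁻¹) * (R * G.full.x (top D) (Cc G a u) * R⁻¹) by group,
      top_comm' G E.frame hRU, ← hcomm.eq, mul_inv_cancel_right]
  · have hcp := E.frame.closedQ.1 c hc
    have hnc : r ≠ negR D c := fun h' => by
      have := G.negR_pos hcp
      rw [← h'] at this
      exact this hrp.2
    have hinv : R⁻¹ * G.full.x a 1 * R = G.full.x a 1 * G.full.x c (N : K) := by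
      have := E.conj_single hap.1 hrp.1 hne hn hcp.1 hnc h (Or.inl hcr) 1 (-1 : K)
      rw [hR, G.full.x_inv]
      rw [G.full.x_inv, neg_neg] at this
      simpa using this
    have hback : R * (G.full.x a 1 * G.full.x c (N : K)) * R⁻¹ = G.full.x a 1 := by
      rw [← hinv]; group
    have hu' := qs_le_pos G E.frame hu
    rw [show R * u * R⁻¹ * G.full.x a 1 * (R * u * R⁻¹)⁻¹ =
        R * (u * (R⁻¹ * G.full.x a 1 * R) * u⁻¹) * R⁻¹ by group, hinv,
      show u * (G.full.x a 1 * G.full.x c (N : K)) * u⁻¹ =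
        (u * G.full.x a 1 * u⁻¹) * (u * G.full.x c (N : K) * u⁻¹) by group,
      cc_spec G E.frame ha hu, cc_spec G E.frame hc hu, mul_one,
      show G.full.x a 1 * G.full.x (top D) (Cc G a u) *
          (G.full.x c (N : K) * G.full.x (top D) (Cc G c u * N)) =
        G.full.x a 1 * (G.full.x (top D) (Cc G a u) * G.full.x c (N : K)) *
          G.full.x (top D) (Cc G c u * N) by group,
      ← (top_comm G E.frame (G.x_mem_US (S := {s | IsPos D s}) hcp _) (Cc G a u)).eq,
      show G.full.x a 1 * (G.full.x c (N : K) * G.full.x (top D) (Cc G a u)) *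
          G.full.x (top D) (Cc G c u * N) = (G.full.x a 1 * G.full.x c (N : K)) *
        (G.full.x (top D) (Cc G a u) * G.full.x (top D) (Cc G c u * N)) by group, G.full.x_add,
      show R * ((G.full.x a 1 * G.full.x c (N : K)) *
          G.full.x (top D) (Cc G a u + Cc G c u * N)) * R⁻¹ =
        (R * (G.full.x a 1 * G.full.x c (N : K)) * R⁻¹) *
          (R * G.full.x (top D) (Cc G a u + Cc G c u * N) * R⁻¹) by group, hback,
      top_comm' G E.frame hRU, mul_comm (Cc G c u)]

/-- The coordinates of a conjugate by a product of root elements. -/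
theorem expand_spec (hn : chkNormal T = true) : ∀ (rs : List ℕ) (a : ℕ), a ∈ qs T →
    expandOK T rs a = true → ∀ u ∈ G.US K (qs T),
    Cc G a ((rs.map fun r => G.full.x r (1 : K)).prod * u *
      ((rs.map fun r => G.full.x r (1 : K)).prod)⁻¹) = Cc G a u + expSum G rs a u
  | [], a, _, _, u, _ => by simp [expSum, expand]
  | r :: rs, a, ha, hok, u, hu => by
    simp only [expandOK, Bool.and_eq_true] at hok
    obtain ⟨⟨⟨⟨hok1, -⟩, -⟩, hr⟩, hm⟩ := hok
    set P := (rs.map fun r => G.full.x r (1 : K)).prod with hP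
    have hPu : P * u * P⁻¹ ∈ G.US K (qs T) := by
      by_cases hall : ∀ r' ∈ rs, IsPos D r'
      · exact E.normal_qs hn (list_prod_mem fun y hy => by
          obtain ⟨r', hr', rfl⟩ := List.mem_map.mp hy
          exact G.x_mem_US (S := {s | IsPos D s}) (hall r' hr') _) hu
      · exfalso
        have hpos : ∀ (l : List ℕ) (b : ℕ), expandOK T l b = true → ∀ r' ∈ l, IsPos D r' := by
          intro l
          induction l with
          | nil => simp
          | cons x l ih =>
            intro b hb r' hr'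
            simp only [expandOK, Bool.and_eq_true] at hb
            rcases List.mem_cons.mp hr' with rfl | h
            · exact ((notQ_iff T).mp hb.1.2).1
            · exact ih b hb.1.1.1.1 r' h
        exact hall (hpos rs a hok1)
    have ih := expand_spec hn rs
    rw [List.map_cons, List.prod_cons, ← hP,
      show G.full.x r 1 * P * u * (G.full.x r 1 * P)⁻¹ =
        G.full.x r 1 * (P * u * P⁻¹) * (G.full.x r 1)⁻¹ by group]
    split at hm
    · rename_i c N heq
      simp only [Bool.and_eq_true, List.isEmpty_iff] at hm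
      obtain ⟨⟨⟨hokc, hcq⟩, -⟩, hcr⟩ := hm
      rw [(E.cc_conj_root ha hr hPu).2 c N heq hcq hcr, ih a ha hok1 u hu, ih c hcq hokc u hu]
      simp only [expSum, expand, heq, List.map_append, List.map_cons, List.map_map,
        List.sum_append, List.sum_cons, Function.comp_def, Int.cast_mul, mul_assoc,
        List.sum_map_mul_left]
      ring
    · rename_i heq
      rw [(E.cc_conj_root ha hr hPu).1 heq, ih a ha hok1 u hu]
      simp [expSum, expand, heq]
    · simp at hm

/-- A non-rational element in the last orbit of the radical. -/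
theorem last_orbit {C : Data} {lv : List (List ℕ)} (K' : Checks T m orbs C lv)
    (hst : StepsOK G Φ φ C) (H : Subgroup (GL D.Idx K)) (hM : ∀ g, Rat1 E g → g ∈ H)
    (hH : H ≤ E.Z.G1) {u : GL D.Idx K} (hu : u ∈ H) (huq : u ∈ G.US K (qs T))
    (hirr : φ (Cc G C.aa u) ≠ Cc G C.aa u) :
    ∃ O ∈ C.qo.getLast?, ∃ w ∈ H, w ∈ Φ.Fix ∧ glMap D φ w ≠ w ∧
      w ∈ G.US K {s | ∃ e ∈ O, e.1 = s} := by
  obtain ⟨hch, hcov⟩ := E.ch_qs K'
  have hchk := K'.chain
  simp only [chkChain, Bool.and_eq_true, List.all_eq_true, allBelow_iff,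
    decide_eq_true_eq] at hchk
  obtain ⟨⟨-, hlen⟩, hstep⟩ := hchk
  have hget : ∀ i, i < C.ch.length → C.ch.getD i 0 ∈ qs T := fun i hi => hch _ (by
    rw [List.getD_eq_getElem _ _ hi]; exact List.getElem_mem _)
  have hrank : ∀ k u, u ∈ H → u ∈ G.US K (qs T) → k + 1 ≤ C.ch.length →
      (∀ i < k, φ (Cc G (C.ch.getD i 0) u) = Cc G (C.ch.getD i 0) u) →
      φ (Cc G (C.ch.getD k 0) u) ≠ Cc G (C.ch.getD k 0) u →
      ∃ w ∈ H, w ∈ G.US K (qs T) ∧
        (∀ i < C.stp.length, φ (Cc G (C.ch.getD i 0) w) = Cc G (C.ch.getD i 0) w) ∧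
        φ (Cc G (C.ch.getD C.stp.length 0) w) ≠ Cc G (C.ch.getD C.stp.length 0) w := by
    intro k
    induction hn : C.stp.length - k generalizing k with
    | zero =>
      intro u hu huq hk hrat hir
      obtain rfl : k = C.stp.length := by omega
      exact ⟨u, hu, huq, hrat, hir⟩
    | succ d ih =>
      intro u hu huq hk hrat hir
      have hkl : k < C.stp.length := by omega
      have huf := E.Z.le_fix (hH hu)
      obtain ⟨hok1, hall⟩ := hstep k hkl
      have hst' := K'.stp
      simp only [chkStp, allBelow_iff, List.any_eq_true, List.mem_range, decide_eq_true_eq] at hst'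
      obtain ⟨J, hJ, hJe⟩ := hst' k hkl
      set rs := stepRoots D (C.stp.getD k []) with hrs
      set y := (rs.map fun r => G.full.x r (1 : K)).prod with hy
      have hyPX : y = G.PX (G.oJ orbs ⟨J, hJ⟩) fun _ => (1 : K) := by
        rw [hy, hrs, ← hJe, stepRoots, ← E.a1.spec.map_word ⟨J, hJ⟩, List.map_map, List.map_map]
        rfl
      have hyr : Rat1 E y := by
        refine ⟨by rw [hyPX]; exact E.a1.PX_mem (E.a1.tup_one ⟨J, hJ⟩), ?_⟩
        rw [hy, map_list_prod, List.map_map]
        exact congrArg List.prod (List.map_congr_left fun r _ => by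
          show glMap D φ _ = _
          rw [G.glMap_x, map_one])
      have hyU : y ∈ G.US K {s | IsPos D s} := by
        rw [hyPX]
        exact G.posUnipotent_eq (F := K) ▸ G.flip_le_pos _ (E.a1.PX_mem_US ⟨J, hJ⟩ _)
      set u' := y * u * y⁻¹ * u⁻¹
      have hu'H : u' ∈ H := mul_mem (mul_mem (mul_mem (hM _ hyr) hu) (inv_mem (hM _ hyr)))
        (inv_mem hu)
      have hconj := E.normal_qs K'.normal hyU huq
      have hu'q : u' ∈ G.US K (qs T) := mul_mem hconj (inv_mem huq)
      have hC : ∀ a ∈ qs T, expandOK T rs a = true → Cc G a u' = expSum G rs a u := by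
        intro a ha hok
        show Cc G a (y * u * y⁻¹ * u⁻¹) = _
        rw [cc_mul G E.frame ha hconj (inv_mem huq), cc_inv G E.frame ha huq,
          hy, E.expand_spec K'.normal rs a ha hok u huq]
        ring
      have hk1 : k + 1 + 1 ≤ C.ch.length := by omega
      refine ih (k + 1) (by omega) u' hu'H hu'q hk1 (fun i hi => ?_) ?_
      · obtain ⟨hok, hterm⟩ := hall i hi
        rw [hC _ (hget i (by omega)) hok]
        have hzero : ∀ p ∈ expand T rs (C.ch.getD i 0), φ ((p.2 : K) * Cc G p.1 u) =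
            (p.2 : K) * Cc G p.1 u := fun p hp => by
          rw [map_mul, map_intCast]
          congr 1
          have hpq : p.1 ∈ qs T := by
            have : ∀ (l : List ℕ) (b : ℕ), expandOK T l b = true →
                ∀ p ∈ expand T l b, p.1 ∈ qs T := by
              intro l
              induction l with
              | nil => simp [expand]
              | cons x l ih =>
                intro b hb p hp
                simp only [expandOK, Bool.and_eq_true] at hb
                obtain ⟨⟨⟨⟨hb1, -⟩, -⟩, -⟩, hb2⟩ := hb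
                simp only [expand, List.mem_append] at hp
                rcases hp with hp | hp
                · exact ih b hb1 p hp
                · split at hb2
                  · rename_i c N heq
                    simp only [Bool.and_eq_true] at hb2
                    rw [heq] at hp
                    rcases List.mem_cons.mp hp with rfl | hp
                    · exact hb2.1.1.2
                    · obtain ⟨p', hp', rfl⟩ := List.mem_map.mp hp
                      exact ih c hb2.1.1.1 p' hp'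
                  · rename_i heq
                    rw [heq] at hp
                    simp at hp
                  · simp at hb2
            exact this rs _ hok p hp
          refine E.inFixOrb_rational hpq (hterm p hp)
            (fun r hr => hch r (List.mem_of_mem_take hr)) huq huf.2 fun r hr => ?_
          obtain ⟨j, hj, rfl⟩ := List.getElem_of_mem hr
          have hj' := hj
          rw [List.length_take] at hj'
          have := hrat j (by omega)
          rwa [List.getD_eq_getElem _ _ (by omega), ← List.getElem_take (h := hj)] at this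
        rw [expSum, map_list_sum, List.map_map]
        exact congrArg List.sum (List.map_congr_left hzero)
      · rw [hC _ (hget (k + 1) (by omega)) hok1]
        exact hst k hkl u huq huf hrat hir
  classical
  have hex : ∃ k, k < C.ch.length ∧ φ (Cc G (C.ch.getD k 0) u) ≠ Cc G (C.ch.getD k 0) u := by
    refine E.exists_chain K' huq (E.Z.le_fix (hH hu)) fun h => hirr ?_
    have haa : C.aa ∈ qs T := by
      have hb := K'.b
      simp only [chkB, Bool.and_eq_true] at hb
      exact hb.1.1.1.1.1.1.1.1.1.1.1.1.1.1.1.1.1.1.2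
    rw [← cc_map G E.frame φ haa huq, h]
  have hk := Nat.find_spec hex
  obtain ⟨w, hwH, hwq, hwrat, hwirr⟩ := hrank (Nat.find hex) u hu huq hk.1
    (fun i hi => by
      by_contra h
      exact Nat.find_min hex hi ⟨lt_trans hi hk.1, h⟩) hk.2
  have hwf := E.Z.le_fix (hH hwH)
  have hlast := K'.last
  rw [chkLast] at hlast
  split at hlast
  swap
  · simp at hlast
  rename_i O rest hrev
  have hqe : C.qo = rest.reverse ++ [O] := by
    rw [← List.reverse_reverse C.qo, hrev, List.reverse_cons]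
  obtain ⟨z, hz⟩ := qform E K'.qo hwq
  set g : List (ℕ × ℕ × ℤ) → GL D.Idx K := fun O =>
    (O.map fun e => G.full.x e.1 (-(e.2.2 : K) * Cc G e.2.1 w)).prod with hg
  have hq : qProd G C.qo w = (rest.reverse.map g).prod * g O := by
    rw [qProd, hqe, List.map_append, List.prod_append]
    simp [g]
  have hgf : ∀ O' ∈ C.qo, g O' ∈ Φ.Fix := fun O' hO' => orbit_fix E K'.qo hwq hwf.2 hO'
  have hspec := (qo_spec E K'.qo).2.1
  simp only [List.all_eq_true] at hlast
  have hArat : Rat1 E (rest.reverse.map g).prod := by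
    refine ⟨list_prod_mem fun y hy => ?_, ?_⟩
    · obtain ⟨O', hO', rfl⟩ := List.mem_map.mp hy
      have hm : O' ∈ C.qo := hqe ▸ List.mem_append_left _ hO'
      refine E.qs_mem (hgf O' hm) (list_prod_mem fun y hy => ?_)
      obtain ⟨e, he, rfl⟩ := List.mem_map.mp hy
      exact G.x_mem_US ((hspec O' hm).2 e he).1 _
    · rw [map_list_prod, List.map_map]
      refine congrArg List.prod (List.map_congr_left fun O' hO' => ?_)
      show glMap D φ (g O') = g O'
      rw [hg, map_list_prod, List.map_map]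
      refine congrArg List.prod (List.map_congr_left fun e he => ?_)
      have hm : O' ∈ C.qo := hqe ▸ List.mem_append_left _ hO'
      show glMap D φ _ = _
      rw [G.glMap_x, map_mul, map_neg, map_intCast]
      congr 2
      refine E.inFixOrb_rational ((hspec O' hm).2 e he).2.1
        (hlast O' (List.mem_reverse.mp hO') e he)
        (fun r hr => hch r (List.mem_of_mem_take hr)) hwq hwf.2 fun r hr => ?_
      obtain ⟨j, hj, rfl⟩ := List.getElem_of_mem hr
      have hj' := hj
      rw [List.length_take] at hj'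
      have := hwrat j (by omega)
      rwa [List.getD_eq_getElem _ _ (by omega), ← List.getElem_take (h := hj)] at this
  have hzf : G.full.x (top D) z ∈ Φ.Fix := by
    have hP : qProd G C.qo w ∈ Φ.Fix := list_prod_mem fun y hy => by
      obtain ⟨O', hO', rfl⟩ := List.mem_map.mp hy
      exact hgf O' hO'
    have e : G.full.x (top D) z = (qProd G C.qo w)⁻¹ * w := eq_inv_mul_iff_mul_eq.mpr hz.symm
    rw [e]
    exact mul_mem (inv_mem hP) hwf
  have hztop := E.xtop_rat (E.param_fixed E.frame.top_lt E.top_fix hzf)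
  have hgw : g O = ((rest.reverse.map g).prod)⁻¹ * w * (G.full.x (top D) z)⁻¹ := by
    calc g O = ((rest.reverse.map g).prod)⁻¹ * (qProd G C.qo w * G.full.x (top D) z) *
          (G.full.x (top D) z)⁻¹ := by rw [hq]; group
      _ = _ := by rw [← hz]
  refine ⟨O, by rw [hqe]; simp, g O, ?_, hgf O (hqe ▸ by simp), fun h => hwirr ?_, ?_⟩
  · rw [hgw]
    exact mul_mem (mul_mem (inv_mem (hM _ hArat)) hwH) (inv_mem (hM _ hztop))
  · have hwr : glMap D φ w = w := by
      have e : w = (rest.reverse.map g).prod * g O * G.full.x (top D) z := by rw [← hq]; exact hz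
      conv_lhs => rw [e]
      conv_rhs => rw [e]
      rw [map_mul, map_mul, hArat.2, h, hztop.2]
    rw [← cc_map G E.frame φ (hget _ (by omega)) hwq, hwr]
  · exact list_prod_mem fun y hy => by
      obtain ⟨e, he, rfl⟩ := List.mem_map.mp hy
      exact G.x_mem_US (S := {s | ∃ e ∈ O, e.1 = s}) ⟨e, he, rfl⟩ _

end Env

end SubfieldTw

end CfsgLib.Chev
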