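import Cfsg.Agent.Chev.SubfieldTw.Top

/-!
Elements commuting with the rational conjugates of the highest root element are trivial.
-/

set_option autoImplicit false
set_option linter.unusedSectionVars false

namespace CfsgLib.Chev

open Cfsg.Lie Matrix
open scoped MatrixGroups

namespace SubfieldTw

open Tab SubfieldMax

variable {D : ChevalleyDatum} {T : Tab D} {G : T.Good} {K : Type*} [Field K] [Finite K]
  {Φ : G.Graph K} {φ : K →+* K} {m : List (ℕ × ℤ × ℕ)} {orbs : List (List ℕ)}

namespace Env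

variable (E : Env Φ φ m orbs)
include E

/-- The vectors fixed by every element commuting with the rational conjugates of the highest root
element. -/
def wSpace : Submodule K (D.Idx → K) :=
  Submodule.span K ((fun g : GL D.Idx K => (g : Matrix D.Idx D.Idx K) *ᵥ Pi.single E.frame.hiI 1) ''
    {g | Rat1 E g})

/-- Commuting with all rational conjugates of the highest root element. -/
def CommTop (k : GL D.Idx K) : Prop :=
  k ∈ D.group K ∧ ∀ a, Rat1 E a → Commute k (a * G.full.x (top D) 1 * a⁻¹)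

theorem commTop_fixes {k : GL D.Idx K} (hk : E.CommTop k) {v : D.Idx → K}
    (hv : v ∈ E.wSpace) : (k : Matrix D.Idx D.Idx K) *ᵥ v = v := by
  induction hv using Submodule.span_induction with
  | mem v hv =>
    obtain ⟨a, ha, rfl⟩ := hv
    set k' := a⁻¹ * k * a with hk'
    have hag := E.g1_le_group ha.1
    have hk'g : k' ∈ D.group K := mul_mem (mul_mem (inv_mem hag) hk.1) hag
    have hc : Commute k' (G.full.x (top D) 1) := by
      have h := (hk.2 a ha).conj a⁻¹
      simpa [hk', mul_assoc] using h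
    obtain ⟨w, hw, L, e, he, hcol, hx⟩ := top_form G E.frame hk'g
    have h1 := hx 1
    rw [hc.eq, mul_inv_cancel_right, mul_one] at h1
    have h2 : G.full.x (G.full.pw L ⟨top D, E.frame.top_lt⟩).val e = G.full.x (top D) 1 := by
      have h3 := top_comm' G E.frame (u := w⁻¹) (G.posUnipotent_eq (F := K) ▸ inv_mem hw) 1
      rw [h1] at h3
      rw [h1]
      conv_rhs => rw [← h3]
      group
    have hl : (G.full.pw L ⟨top D, E.frame.top_lt⟩).val = top D :=
      G.x_inj_root (Fin.isLt _) E.frame.top_lt he h2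
    rw [hl] at h2
    have he1 : e = 1 := G.x_inj E.frame.top_lt h2
    have hcol' : (k' : Matrix D.Idx D.Idx K) *ᵥ Pi.single E.frame.hiI 1 =
        Pi.single E.frame.hiI 1 := by
      funext x
      rw [Matrix.mulVec_single_one, Matrix.col_apply, hcol, he1, mul_one,
        show G.full.pw L ⟨top D, E.frame.top_lt⟩ = ⟨top D, E.frame.top_lt⟩ from Fin.ext hl,
        show (Sum.inr ⟨top D, E.frame.top_lt⟩ : D.Idx) = E.frame.hiI from rfl,
        col_hi G E.frame hw, Matrix.one_apply, Pi.single_apply]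
    show (k : Matrix D.Idx D.Idx K) *ᵥ ((a : Matrix D.Idx D.Idx K) *ᵥ _) = _
    rw [Matrix.mulVec_mulVec, ← Units.val_mul, show k * a = a * k' by rw [hk']; group,
      Units.val_mul, ← Matrix.mulVec_mulVec, hcol']
  | zero => simp
  | add a b _ _ ha hb => simp [Matrix.mulVec_add, ha, hb]
  | smul c a _ ha => simp [Matrix.mulVec_smul, ha]

theorem wSpace_stable {g : GL D.Idx K} (hg : Rat1 E g) {v : D.Idx → K} (hv : v ∈ E.wSpace) :
    (g : Matrix D.Idx D.Idx K) *ᵥ v ∈ E.wSpace := by
  induction hv using Submodule.span_induction with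
  | mem v hv =>
    obtain ⟨a, ha, rfl⟩ := hv
    refine Submodule.subset_span ⟨g * a, E.rat_mul hg ha, ?_⟩
    show ((g * a : GL D.Idx K) : Matrix D.Idx D.Idx K) *ᵥ Pi.single E.frame.hiI 1 = _
    rw [Units.val_mul, ← Matrix.mulVec_mulVec]
  | zero => simp
  | add a b _ _ ha hb => rw [Matrix.mulVec_add]; exact add_mem ha hb
  | smul c a _ ha => rw [Matrix.mulVec_smul]; exact Submodule.smul_mem _ c ha

theorem evV_single (s : Fin D.nroots) :
    evV D K [(s.val, 1)] = Pi.single (Sum.inr s : D.Idx) 1 := by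
  funext x
  rcases eq_or_ne x (Sum.inr s) with rfl | hx
  · simp [evV, coeff_cons, coeff_nil, code_inr]
  · have : s.val ≠ code x := fun e => hx (code_injective (by rw [← e]; rfl))
    simp [evV, coeff_cons, coeff_nil, this, hx]

theorem fixed_mem {lg : List (ℕ × List ℕ × List ℕ)} (hlg : chkLongs T m orbs lg = true)
    {r : ℕ} (hr : r < D.nroots) (hf : piN m r = r) : evV D K [(r, 1)] ∈ E.wSpace := by
  simp only [chkLongs, Bool.and_eq_true, List.all_eq_true, Nat.blt_eq, allBelow_iff,
    Bool.or_eq_true, Bool.not_eq_true', Nat.beq_eq, List.any_eq_true] at hlg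
  obtain ⟨hall, hcov⟩ := hlg
  obtain ⟨⟨r', up, dn⟩, hmem, rfl⟩ := (hcov r hr).resolve_left (by
    rw [show fixR m r = true from by simp [fixR, hf]]; simp)
  obtain ⟨⟨⟨⟨hup, -⟩, -⟩, hu⟩, -⟩ := hall _ hmem
  obtain ⟨L', hnT, hpw, hval⟩ := E.exists_word_fin hup
  obtain ⟨η, hη, hc, -⟩ := nw_col G (K := K) (L'.flatMap E.Z.word) ⟨top D, E.frame.top_lt⟩
  have hs : G.full.pw (L'.flatMap E.Z.word) ⟨top D, E.frame.top_lt⟩ = ⟨r', hr⟩ :=
    Fin.ext (by rw [← hpw]; exact (hval _).trans hu)
  have h1 : (E.Z.nT L' : Matrix D.Idx D.Idx K) *ᵥ Pi.single E.frame.hiI 1 ∈ E.wSpace :=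
    Submodule.subset_span ⟨_, E.nT_rat L', rfl⟩
  have e : (E.Z.nT L' : Matrix D.Idx D.Idx K) *ᵥ Pi.single E.frame.hiI 1 =
      η • evV D K [(r', 1)] := by
    funext x
    rw [Matrix.mulVec_single_one, Matrix.col_apply, hnT, show E.frame.hiI =
      Sum.inr ⟨top D, E.frame.top_lt⟩ from rfl, hc, hs, E.evV_single ⟨r', hr⟩, Pi.smul_apply,
      Pi.single_apply]
    split_ifs <;> simp
  rw [e] at h1
  exact (Submodule.smul_mem_iff _ (left_ne_zero_of_mul_eq_one hη)).mp h1

theorem applyX_spec {rs : List ℕ} {v : Vec} (h : applyValid T rs v = true) :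
    (((rs.map fun r => G.full.x r (1 : K)).prod : GL D.Idx K) : Matrix D.Idx D.Idx K) *ᵥ
      evV D K v = evV D K (applyX T rs v) ∧ ∀ p ∈ applyX T rs v, p.1 < dim D := by
  induction rs with
  | nil =>
    simp only [applyValid, List.all_eq_true, Nat.blt_eq] at h
    exact ⟨by simp [applyX], h⟩
  | cons r rs ih =>
    simp only [applyValid, Bool.and_eq_true, List.all_eq_true, Nat.blt_eq] at h
    obtain ⟨⟨hr, h1⟩, h2⟩ := h
    obtain ⟨ih1, ih2⟩ := ih h1
    refine ⟨?_, h2⟩
    rw [List.map_cons, List.prod_cons, Units.val_mul, ← Matrix.mulVec_mulVec, ih1,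
      x_one_evV G E.frame hr _ ih2]
    funext x
    simp [evV, applyX, coeff_append]

theorem stage_rat {rs : List ℕ} (h : chkStage T m orbs rs = true) :
    Rat1 E ((rs.map fun r => G.full.x r (1 : K)).prod) := by
  simp only [chkStage, Bool.or_eq_true, List.any_eq_true, List.mem_range, decide_eq_true_eq] at h
  rcases h with h | ⟨J, hJ, hJe⟩
  · split at h
    · rename_i r
      simp only [Bool.and_eq_true, Nat.blt_eq, fixR, Nat.beq_eq] at h
      simpa using E.x_long_rat h.1 h.2 (map_one φ)
    · simp at h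
  · have e : (rs.map fun r => G.full.x r (1 : K)).prod =
        G.PX (G.oJ orbs ⟨J, hJ⟩) fun _ => (1 : K) := by
      rw [← hJe, ← E.a1.spec.map_word ⟨J, hJ⟩, List.map_map, List.map_map]
      rfl
    refine ⟨e ▸ E.a1.PX_mem (E.a1.tup_one ⟨J, hJ⟩), ?_⟩
    rw [map_list_prod, List.map_map]
    exact congrArg List.prod (List.map_congr_left fun r _ => by
      show glMap D φ _ = _
      rw [G.glMap_x, map_one])

theorem stages_mem {lg : List (ℕ × List ℕ × List ℕ)} (hlg : chkLongs T m orbs lg = true) :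
    ∀ (st : List (List ℕ)) (v : Vec), evV D K v ∈ E.wSpace →
      stagesOK T m orbs st v = true → evV D K (runStages T m st v) ∈ E.wSpace
  | [], v, hv, _ => hv
  | rs :: st, v, hv, h => by
    simp only [stagesOK, Bool.and_eq_true] at h
    obtain ⟨⟨hs, hval⟩, hst⟩ := h
    refine stages_mem hlg st _ ?_ hst
    have h1 := E.wSpace_stable (E.stage_rat hs) hv
    rw [(E.applyX_spec hval).1] at h1
    have key : ∀ w : Vec, evV D K w - evV D K (dropFix D m w) ∈ E.wSpace := by
      intro w
      induction w with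
      | nil => simp [dropFix]
      | cons p w ih =>
        by_cases hp : p.1 < D.nroots ∧ piN m p.1 = p.1
        · have e : dropFix D m (p :: w) = dropFix D m w := by
            simp [dropFix, fixR, hp.1, hp.2]
          rw [e]
          have e2 : evV D K (p :: w) = (p.2 : K) • evV D K [(p.1, 1)] + evV D K w := by
            funext x
            simp only [evV, coeff_cons, coeff_nil, Pi.add_apply, Pi.smul_apply, smul_eq_mul]
            split_ifs <;> simp
          rw [e2, add_sub_assoc]
          exact add_mem (Submodule.smul_mem _ _ (E.fixed_mem hlg hp.1 hp.2)) ih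
        · have e : dropFix D m (p :: w) = p :: dropFix D m w := by
            simp only [not_and] at hp
            rw [dropFix, List.filter_cons_of_pos]
            · rfl
            · by_cases h1 : p.1 < D.nroots
              · simp [fixR, ← Bool.not_eq_true, Nat.beq_eq, hp h1]
              · simp [fixR, ← Bool.not_eq_true, Nat.blt_eq, h1]
          rw [e]
          have e2 : evV D K (p :: w) - evV D K (p :: dropFix D m w) =
              evV D K w - evV D K (dropFix D m w) := by
            funext x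
            simp only [evV, coeff_cons, Pi.sub_apply, Int.cast_add]
            ring
          rw [e2]; exact ih
    have e : evV D K (applyX T rs v ++ v.map fun p : ℕ × ℤ => (p.1, -p.2)) =
        evV D K (applyX T rs v) - evV D K v := by
      have hneg : ∀ (u : Vec) (k : ℕ), coeff (u.map fun p : ℕ × ℤ => (p.1, -p.2)) k = -coeff u k := by
        intro u k
        induction u with
        | nil => simp [coeff_nil]
        | cons p u ih =>
          simp only [List.map_cons, coeff_cons, ih]
          split_ifs <;> ring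
      funext x
      simp only [evV, coeff_append, hneg, Pi.sub_apply, Int.cast_add, Int.cast_neg, sub_eq_add_neg]
    have hk := key (applyX T rs v ++ v.map fun p : ℕ × ℤ => (p.1, -p.2))
    rw [e] at hk
    simpa using sub_mem (sub_mem h1 hv) hk

/-- For every positive root a fixed vector supported in its height. -/
theorem exists_vec {lg : List (ℕ × List ℕ × List ℕ)} (hlg : chkLongs T m orbs lg = true)
    {start : ℕ} {st : List (List ℕ)} {O : List ℕ} {sw : List (ℕ × List ℕ × ℕ)}
    (hsp : chkSpan T m orbs start st O sw = true) (s : Fin D.nroots) (hs : IsPos D s.val) :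
    ∃ V ∈ E.wSpace, V (Sum.inr s) ≠ 0 ∧
      ∀ x, V x ≠ 0 → ∃ r : Fin D.nroots, x = Sum.inr r ∧ T.ht r.val = T.ht s.val := by
  by_cases hfix : piN m s.val = s.val
  · refine ⟨_, E.fixed_mem hlg s.isLt hfix, ?_, fun x hx => ⟨s, ?_, rfl⟩⟩
    · rw [E.evV_single s]; simp
    · rw [E.evV_single s] at hx
      by_contra h
      exact hx (Pi.single_eq_of_ne h 1)
  simp only [chkSpan, Bool.and_eq_true, Nat.blt_eq, fixR, Nat.beq_eq, List.all_eq_true,
    Bool.or_eq_true, memB_iff, decide_eq_true_eq, allBelow_iff, List.any_eq_true] at hsp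
  obtain ⟨⟨⟨⟨⟨hst, hstf⟩, hok⟩, hsupp, hO⟩, hsw⟩, hcov⟩ := hsp
  obtain ⟨e, he, he1⟩ : ∃ e ∈ sw, e.1 = s.val := by
    rcases hcov s.val s.isLt with (h | h) | h
    · exact absurd hs.2 (by rw [Nat.mul_eq] at h; omega)
    · exact absurd h hfix
    · exact h
  obtain ⟨⟨⟨hL, hσ⟩, hmap⟩, hht⟩ := hsw e he
  rw [he1] at hmap hht
  obtain ⟨hσlt, hσ1⟩ := hO _ hσ
  set v := runStages T m st [(start, 1)] with hv
  have hvm : evV D K v ∈ E.wSpace :=
    E.stages_mem hlg st _ (E.fixed_mem hlg hst hstf) hok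
  have hsup : ∀ x : D.Idx, evV D K v x ≠ 0 → code x ∈ O := by
    intro x hx
    have hc : coeff v (code x) ≠ 0 := fun h => hx (by simp [evV, h])
    obtain ⟨p, hp, hpx⟩ := exists_mem_of_coeff_ne_zero hc
    rcases hsupp p hp with h | h
    · exact hpx ▸ h
    · exact absurd (hpx ▸ h) hc
  obtain ⟨L', hnT, hpw, hval⟩ := E.exists_word_fin hL
  set w := L'.flatMap E.Z.word
  have hent : ∀ x : D.Idx, ((E.Z.nT L' : Matrix D.Idx D.Idx K) *ᵥ evV D K v) x =
      ∑ r : Fin D.nroots, (G.full.nw K w : Matrix D.Idx D.Idx K) x (Sum.inr r) *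
        evV D K v (Sum.inr r) := by
    intro x
    rw [hnT, Matrix.mulVec, dotProduct, Fintype.sum_sum_type, add_eq_right]
    refine Finset.sum_eq_zero fun j _ => ?_
    by_contra h
    have h2 := hsup _ (right_ne_zero_of_mul h)
    obtain ⟨hlt, -⟩ := hO _ h2
    rw [code_inl] at hlt
    omega
  have hrt : ∀ r : Fin D.nroots, evV D K v (Sum.inr r) ≠ 0 → r.val ∈ O := fun r h => by
    have := hsup _ h
    rwa [code_inr] at this
  refine ⟨_, E.wSpace_stable (E.nT_rat L') hvm, ?_, fun x hx => ?_⟩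
  · rw [hent, Finset.sum_eq_single ⟨e.2.2, hσlt⟩]
    · obtain ⟨η, hη, hc, -⟩ := nw_col G (K := K) w ⟨e.2.2, hσlt⟩
      rw [hc, if_pos (congrArg Sum.inr (Fin.ext (by rw [← hpw, hval]; exact hmap.symm)))]
      refine mul_ne_zero (left_ne_zero_of_mul_eq_one hη) ?_
      simp only [evV, code_inr]
      rcases Int.natAbs_eq_iff.mp hσ1 with h | h <;> simp [h]
    · intro r _ hr
      by_cases h0 : evV D K v (Sum.inr r) = 0
      · rw [h0, mul_zero]
      obtain ⟨η, -, hc, -⟩ := nw_col G (K := K) w r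
      rw [hc, if_neg, zero_mul]
      intro h
      refine hr ((G.full.pw w).injective (Fin.ext ?_))
      rw [← Sum.inr_injective h, ← hpw, hval]
      exact hmap.symm
    · simp
  · rw [hent] at hx
    obtain ⟨r, -, hr⟩ := Finset.exists_ne_zero_of_sum_ne_zero hx
    obtain ⟨η, -, hc, -⟩ := nw_col G (K := K) w r
    rw [hc] at hr
    refine ⟨G.full.pw w r, ?_, ?_⟩
    · by_contra h
      rw [if_neg h, zero_mul] at hr
      exact hr rfl
    · rw [← hpw, hval]
      exact hht _ (hrt r (right_ne_zero_of_mul hr))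

/-- An element commuting with the rational conjugates of the highest root element lies in the
positive unipotent subgroup. -/
theorem commTop_pos {lg : List (ℕ × List ℕ × List ℕ)} (hlg : chkLongs T m orbs lg = true)
    {start : ℕ} {st : List (List ℕ)} {O : List ℕ} {sw : List (ℕ × List ℕ × ℕ)}
    (hsp : chkSpan T m orbs start st O sw = true) {k : GL D.Idx K} (hk : E.CommTop k) :
    k ∈ D.posUnipotent K := by
  obtain ⟨v, hv, c, L, u, hu, rfl⟩ := G.normal_form hk.1
  have hu' : u ∈ D.posUnipotent K := G.flip_le_pos _ hu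
  -- the value of a fixed vector at an image of a root
  have hkey : ∀ s : Fin D.nroots, IsPos D s.val → ∃ V : D.Idx → K, V (Sum.inr s) ≠ 0 ∧
      (∀ x, V x ≠ 0 → ∃ r : Fin D.nroots, x = Sum.inr r ∧ T.ht r.val = T.ht s.val) ∧
      ((v⁻¹ : GL D.Idx K) : Matrix D.Idx D.Idx K) *ᵥ V =
        ((T.hT K c * G.full.nw K L : GL D.Idx K) : Matrix D.Idx D.Idx K) *ᵥ
          ((u : Matrix D.Idx D.Idx K) *ᵥ V) := by
    intro s hs
    obtain ⟨V, hV, hV1, hV2⟩ := E.exists_vec hlg hsp s hs
    refine ⟨V, hV1, hV2, ?_⟩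
    have := E.commTop_fixes hk hV
    conv_lhs => rw [← this]
    rw [Matrix.mulVec_mulVec, Matrix.mulVec_mulVec, ← Units.val_mul, ← Units.val_mul]
    congr 2
    group
  have hflip : ∀ s : Fin D.nroots, IsPos D s.val → IsPos D (G.full.pw L s).val := by
    intro s hs
    by_contra hneg
    obtain ⟨V, hV1, hV2, hV⟩ := hkey s hs
    have h := congrFun hV (Sum.inr (G.full.pw L s))
    have hneq : T.ht (G.full.pw L s).val < T.ht s.val := by
      have h1 := (G.full.cert.root_spec s.isLt).2.1.mpr hs.2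
      have h2 : ¬ 0 < T.ht (G.full.pw L s).val := fun e =>
        hneg ⟨Fin.isLt _, (G.full.cert.root_spec (Fin.isLt _)).2.1.mp e⟩
      omega
    rw [Matrix.mulVec, dotProduct, Finset.sum_eq_zero (fun z _ => ?_)] at h
    · obtain ⟨η, hη, hc, -⟩ := nw_col G (K := K) L s
      rw [Units.val_mul, ← Matrix.mulVec_mulVec, T.coe_hT, Matrix.mulVec_diagonal] at h
      simp only [Matrix.mulVec, dotProduct] at h
      rw [Sum.elim_inr, Finset.sum_eq_single (Sum.inr s), Finset.sum_eq_single (Sum.inr s), hc,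
        if_pos rfl, G.grUni_pos hu' _ _ le_rfl, Matrix.one_apply_eq, one_mul] at h
      · exact mul_ne_zero (Units.ne_zero _)
          (mul_ne_zero (left_ne_zero_of_mul_eq_one hη) hV1) h.symm
      · intro z _ hz
        by_cases h0 : V z = 0
        · rw [h0, mul_zero]
        obtain ⟨r, rfl, hr⟩ := hV2 z h0
        rw [G.grUni_pos hu' _ _ (by rw [one_mul, one_mul, code_inr, code_inr,
          T.gr_root r.isLt, T.gr_root s.isLt, hr]), Matrix.one_apply_ne hz.symm, zero_mul]
      · simp
      · intro z _ hz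
        rcases z with j | r
        · rw [(G.mono_of_mem (G.nw_mem_monomial L)).2 j _] <;> simp
        · obtain ⟨η', -, hc', -⟩ := nw_col G (K := K) L r
          rw [hc', if_neg, zero_mul]
          intro e
          exact hz (congrArg Sum.inr ((G.full.pw L).injective (Sum.inr_injective e).symm))
      · simp
    · by_cases h0 : V z = 0
      · rw [h0, mul_zero]
      obtain ⟨r, rfl, hr⟩ := hV2 z h0
      rw [G.grUni_pos (inv_mem hv) _ _ (by rw [one_mul, one_mul, code_inr, code_inr,
        T.gr_root r.isLt, T.gr_root (Fin.isLt _), hr]; exact hneq.le),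
        Matrix.one_apply_ne (fun e => ?_), zero_mul]
      rw [Sum.inr_injective e, hr] at hneq
      exact lt_irrefl _ hneq
  have hpw : G.full.pw L = 1 := G.eq_one_of_pw_pos hflip
  have hd : G.full.nw K L ∈ D.diagonalSubgroup K :=
    G.mem_diagonal_of_pos (G.nw_mem_monomial L) (G.rootAct_nw L) hflip
  rw [G.full.diagonal_eq_range] at hd
  obtain ⟨d, hd⟩ := hd
  have hu1 : u = 1 := by
    have he : flipSet (G.full.pw L) = (∅ : Set ℕ) := by
      ext s
      exact ⟨fun ⟨hlt, h1, h2⟩ => h2 (hflip ⟨s, hlt⟩ h1), False.elim⟩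
    rw [he, show G.US K (∅ : Set ℕ) = ⊥ from le_bot_iff.mp
      ((Subgroup.closure_le _).mpr fun _ ⟨r, hr, _⟩ => hr.elim), Subgroup.mem_bot] at hu
    exact hu
  have hc1 : T.hT K (c * d) = 1 := by
    rw [G.full.hT_eq_one_iff]
    intro j hj
    obtain ⟨V, hV1, hV2, hV⟩ := hkey ⟨D.simple j, G.full.simple_lt hj⟩ (G.pos_simp ⟨j, hj⟩)
    have h := congrFun hV (Sum.inr ⟨D.simple j, G.full.simple_lt hj⟩)
    rw [hu1, Units.val_one, Matrix.one_mulVec, ← hd, ← map_mul, T.coe_hT,
      Matrix.mulVec_diagonal, Sum.elim_inr, Matrix.mulVec, dotProduct,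
      Finset.sum_eq_single (Sum.inr ⟨D.simple j, G.full.simple_lt hj⟩),
      G.grUni_pos (inv_mem hv) _ _ le_rfl, Matrix.one_apply_eq, one_mul] at h
    · exact Units.ext ((mul_eq_right₀ hV1).mp h.symm)
    · intro z _ hz
      by_cases h0 : V z = 0
      · rw [h0, mul_zero]
      obtain ⟨r, rfl, hr⟩ := hV2 z h0
      rw [G.grUni_pos (inv_mem hv) _ _ (by rw [one_mul, one_mul, code_inr, code_inr,
        T.gr_root r.isLt, T.gr_root (G.full.simple_lt hj), hr]), Matrix.one_apply_ne hz.symm,
        zero_mul]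
    · simp
  rw [hu1, mul_one, ← hd, mul_assoc, ← map_mul, hc1, mul_one]
  exact hv

/-- An element commuting with the rational conjugates of the highest root element is trivial. -/
theorem commTop_one {lg : List (ℕ × List ℕ × List ℕ)} (hlg : chkLongs T m orbs lg = true)
    {start : ℕ} {st : List (List ℕ)} {O : List ℕ} {sw : List (ℕ × List ℕ × ℕ)}
    (hsp : chkSpan T m orbs start st O sw = true) {k : GL D.Idx K} (hk : E.CommTop k) : k = 1 := by
  have hp := E.commTop_pos hlg hsp hk
  obtain ⟨L, -, hL⟩ := E.Z.exists_longest_red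
  set n := E.Z.nT L
  have hn := E.nT_rat L
  have hk' : E.CommTop (n * k * n⁻¹) := by
    refine ⟨mul_mem (mul_mem (E.g1_le_group hn.1) hk.1) (inv_mem (E.g1_le_group hn.1)),
      fun a ha => ?_⟩
    have h := (hk.2 (n⁻¹ * a) (E.rat_mul (E.rat_inv hn) ha)).conj n
    simpa [mul_assoc] using h
  have hp' := E.commTop_pos hlg hsp hk'
  have hneg : n * k * n⁻¹ ∈ D.negUnipotent K := by
    rw [G.negUnipotent_eq]
    refine G.conj_x_act (E.Z.nT_act L) (S := {r | IsPos D r}) (fun s hs => ?_)
      (G.posUnipotent_eq (F := K) ▸ hp)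
    exact ⟨hs.1, Fin.isLt _, fun h => hL ⟨s, hs.1⟩ hs ⟨Fin.isLt _, h⟩⟩
  exact conj_eq_one_iff.mp (G.pos_inf_neg hp' hneg)

end Env

end SubfieldTw

end CfsgLib.Chev
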