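import Cfsg.Agent.Chev.SubfieldTw.Top

/-!
The root subgroups of the orbits of fundamental roots in an overgroup of the rational points.
-/

set_option autoImplicit false
set_option linter.unusedSectionVars false

namespace CfsgLib.Chev

open Cfsg.Lie Matrix
open scoped MatrixGroups

namespace SubfieldTw

open Tab SubfieldMax

variable {D : ChevalleyDatum} {T : Tab D} {G : T.Good} {K : Type*} [Field K] [Finite K]
  {Φ : G.Graph K} {φ : K →+* K} {m : List (ℕ × ℤ × ℕ)} {orbs : List (List ℕ)}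

namespace Env

variable (E : Env Φ φ m orbs)
include E

theorem f_simp (i : Fin D.rank) (t : K) : Φ.f (G.full.simp' i) t = φ t := by
  have hlt := (G.full.simp' i).isLt
  have h1 := Φ.f_one i
  rw [E.hf, (E.map_spec hlt).2.1, pow_one, mul_one] at h1
  rw [E.hf, (E.map_spec hlt).2.1, pow_one, φ.injective (h1.trans (map_one φ).symm), one_mul]

theorem tup_const (J : Fin orbs.length) {x : K} (hx : φ x = x) : E.a1.Tup J fun _ => x :=
  fun i _ => by rw [E.f_simp, hx]

theorem PX_rat {J : Fin orbs.length} {t : Fin D.rank → K} (ht : E.a1.Tup J t)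
    (h : ∀ i ∈ G.oJ orbs J, φ (t i) = t i) : Rat1 E (G.PX (G.oJ orbs J) t) := by
  refine ⟨E.a1.PX_mem ht, ?_⟩
  rw [Good.PX, map_list_prod, List.map_map]
  exact congrArg List.prod (List.map_congr_left fun i hi => by
    show glMap D φ _ = _
    rw [G.glMap_x, h i hi])

/-- A fixed element of a set of root groups moved by a word into an orbit. -/
theorem pull_mem {J : ℕ} {L S : List ℕ} (h : chkPull T orbs J L S = true) {u : GL D.Idx K}
    (hf : u ∈ Φ.Fix) (hu : u ∈ G.US K {s | s ∈ S}) :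
    ∃ J' : Fin orbs.length, J'.val = J ∧ ∃ L' : List (Fin E.Z.nJ), ∃ t, E.a1.Tup J' t ∧
      E.Z.nT L' * u * (E.Z.nT L')⁻¹ = G.PX (G.oJ orbs J') t := by
  simp only [chkPull, Bool.and_eq_true, List.all_eq_true, Nat.blt_eq, List.any_eq_true,
    Nat.beq_eq] at h
  obtain ⟨⟨hL, hJ⟩, hS⟩ := h
  obtain ⟨L', hnT, hpw, hval⟩ := E.exists_word_fin hL
  refine ⟨⟨J, hJ⟩, rfl, L', E.a1.mem_XJ.mp ?_⟩
  have hn := E.Z.le_fix (E.Z.nT_mem L')
  refine Subgroup.mem_inf.mpr ⟨mul_mem (mul_mem hn hf) (inv_mem hn), ?_⟩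
  refine G.conj_x_act (E.Z.nT_act L') (fun s hs => ?_) hu
  obtain ⟨hlt, i, hi, e⟩ := hS s hs
  refine ⟨hlt, ?_⟩
  rw [hval]
  show T.wordT (flatW orbs L) s ∈ _
  rw [e, E.a1.flip_eq]
  have hi' : i < D.rank := by
    have h' := (E.a1.spec.map_word ⟨J, hJ⟩).symm ▸ hi
    obtain ⟨x, -, rfl⟩ := List.mem_map.mp h'
    exact x.isLt
  exact ⟨⟨⟨i, hi'⟩, (mem_toFins _).mpr hi⟩, rfl⟩

theorem PX_add {J : Fin orbs.length} (t t' : Fin D.rank → K) :
    G.PX (G.oJ orbs J) t * G.PX (G.oJ orbs J) t' = G.PX (G.oJ orbs J) fun i => t i + t' i := by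
  rw [Good.PX, Good.PX, Good.PX,
    ← E.a1.prod_mul J (fun i => G.x_mem_K1 i _) (fun i => G.x_mem_K1 i _)]
  exact congrArg List.prod (List.map_congr_left fun i _ => G.full.x_add _ _ _)

theorem PX_congr {J : Fin orbs.length} {t t' : Fin D.rank → K} (ht : E.a1.Tup J t)
    (ht' : E.a1.Tup J t') {a : Fin D.rank} (ha : a ∈ G.oJ orbs J) (h : t a = t' a) :
    G.PX (G.oJ orbs J) t = G.PX (G.oJ orbs J) t' :=
  congrArg List.prod (List.map_congr_left fun i hi => by
    rw [E.a1.tup_determined ht ht' ha h i hi])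

/-- The parameters at a member of an orbit of the elements of a subgroup. -/
def Par (H : Subgroup (GL D.Idx K)) (J : Fin orbs.length) (a : Fin D.rank) : Set K :=
  {x | ∃ t, E.a1.Tup J t ∧ t a = x ∧ G.PX (G.oJ orbs J) t ∈ H}

section

variable {H : Subgroup (GL D.Idx K)} (hM : ∀ g, Rat1 E g → g ∈ H) {J : Fin orbs.length}
  {a : Fin D.rank} (ha : a ∈ G.oJ orbs J)
include hM ha

theorem par_fixed {x : K} (hx : φ x = x) : x ∈ E.Par H J a :=
  ⟨_, E.tup_const J hx, rfl, hM _ (E.PX_rat (E.tup_const J hx) fun _ _ => hx)⟩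

omit hM ha in
theorem par_add {x y : K} (hx : x ∈ E.Par H J a) (hy : y ∈ E.Par H J a) :
    x + y ∈ E.Par H J a := by
  obtain ⟨t, ht, rfl, h⟩ := hx
  obtain ⟨t', ht', rfl, h'⟩ := hy
  refine ⟨fun i => t i + t' i, fun i hi => ?_, rfl, ?_⟩
  · show t (Φ.ρ i) + t' (Φ.ρ i) = _
    rw [ht i hi, ht' i hi, E.f_simp, E.f_simp, E.f_simp, map_add]
  · rw [← E.PX_add]; exact mul_mem h h'

/-- The parameters are stable under the scalars of an adjacent fixed fundamental root. -/
theorem par_smul {l : Fin D.rank} (hl : Φ.ρ l = l)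
    (hadj : ∀ i ∈ G.oJ orbs J, T.cart l (D.simple i) = -1) {x lam : K} (hlam : φ lam = lam)
    (hx : x ∈ E.Par H J a) : lam * x ∈ E.Par H J a := by
  by_cases h0 : lam = 0
  · rw [h0, zero_mul]; exact E.par_fixed hM ha (map_zero φ)
  obtain ⟨t, ht, rfl, h⟩ := hx
  set u : Kˣ := Units.mk0 lam⁻¹ (inv_ne_zero h0) with hu
  have hφu : φ (u : K) = u := by simp [hu, map_inv₀, hlam]
  set c : Fin D.rank → Kˣ := Pi.mulSingle l u with hc
  have hcσ : Φ.σc c = c := by
    funext j
    refine Units.ext ?_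
    show Φ.f (G.full.simp' (Φ.ρ.symm j)) (c (Φ.ρ.symm j) : K) = _
    rw [E.f_simp]
    rcases eq_or_ne j l with rfl | hj
    · rw [show Φ.ρ.symm j = j by rw [Equiv.symm_apply_eq, hl], hc, Pi.mulSingle_eq_same, hφu]
    · have hne : Φ.ρ.symm j ≠ l := fun e => hj (by rw [← Φ.ρ.apply_symm_apply j, e, hl])
      rw [hc, Pi.mulSingle_eq_of_ne hne, Pi.mulSingle_eq_of_ne hj, Units.val_one, map_one]
  have hrat : Rat1 E (T.hT K c) := by
    refine ⟨E.a1.torus_le (E.a1.hT_mem_torus hcσ), ?_⟩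
    rw [G.glMap_hT]
    refine congrArg (T.hT K) (funext fun j => Units.ext ?_)
    show φ (c j : K) = _
    rcases eq_or_ne j l with rfl | hj
    · rw [hc, Pi.mulSingle_eq_same, hφu]
    · rw [hc, Pi.mulSingle_eq_of_ne hj, Units.val_one, map_one]
  have hchi : ∀ i ∈ G.oJ orbs J, (T.chi (D.simple i) c : K) = lam := by
    intro i hi
    show ((∏ k : Fin D.rank, c k ^ T.cart k (D.simple i) : Kˣ) : K) = _
    rw [Finset.prod_eq_single l (fun k _ hk => by rw [hc, Pi.mulSingle_eq_of_ne hk, _root_.one_zpow])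
      (by simp), hc, Pi.mulSingle_eq_same, hadj i hi, _root_.zpow_neg, zpow_one]
    simp [hu]
  refine ⟨fun i => lam * t i, fun i hi => ?_, rfl, ?_⟩
  · show lam * t (Φ.ρ i) = _
    rw [ht i hi, E.f_simp, E.f_simp, map_mul, hlam]
  · have e : G.PX (G.oJ orbs J) (fun i => lam * t i) =
        T.hT K c * G.PX (G.oJ orbs J) t * (T.hT K c)⁻¹ := by
      rw [E.a1.conj_torus_PX]
      exact congrArg List.prod (List.map_congr_left fun i hi => by simp only [hchi i hi])
    rw [e]
    exact mul_mem (mul_mem (hM _ hrat) h) (inv_mem (hM _ hrat))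

omit hM in
theorem full_of_par (h : ∀ x, x ∈ E.Par H J a) {t : Fin D.rank → K} (ht : E.a1.Tup J t) :
    G.PX (G.oJ orbs J) t ∈ H := by
  obtain ⟨t', ht', he, h'⟩ := h (t a)
  rwa [E.PX_congr ht ht' ha he.symm]

/-- The parameters exhaust the field if they contain a basis over the fixed field. -/
theorem par_univ {l : Fin D.rank} (hl : Φ.ρ l = l)
    (hadj : ∀ i ∈ G.oJ orbs J, T.cart l (D.simple i) = -1) {d : ℕ}
    (hK : Nat.card K = Nat.card {x : K // φ x = x} ^ d) (v : Fin d → K)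
    (hv : ∀ i, v i ∈ E.Par H J a)
    (hind : ∀ c : Fin d → K, (∀ i, φ (c i) = c i) → ∑ i, c i * v i = 0 → ∀ i, c i = 0) :
    ∀ x, x ∈ E.Par H J a := by
  classical
  let F : (Fin d → {x : K // φ x = x}) → K := fun c => ∑ i, (c i : K) * v i
  have hinj : Function.Injective F := by
    intro c c' e
    funext i
    refine Subtype.ext (sub_eq_zero.mp (hind (fun i => (c i : K) - c' i)
      (fun i => by rw [map_sub, (c i).2, (c' i).2]) ?_ i))
    simp only [sub_mul, Finset.sum_sub_distrib]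
    exact sub_eq_zero.mpr e
  have hb := (Nat.bijective_iff_injective_and_card F).mpr
    ⟨hinj, by rw [Nat.card_fun, Nat.card_eq_fintype_card (α := Fin d), Fintype.card_fin, hK]⟩
  intro x
  obtain ⟨c, rfl⟩ := hb.2 x
  have : ∀ s : Finset (Fin d), ∑ i ∈ s, (c i : K) * v i ∈ E.Par H J a := by
    intro s
    induction s using Finset.induction_on with
    | empty => rw [Finset.sum_empty]; exact E.par_fixed hM ha (map_zero φ)
    | insert i s hi ih =>
      rw [Finset.sum_insert hi]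
      exact E.par_add (E.par_smul hM ha hl hadj (c i).2 (hv i)) ih
  exact this Finset.univ

end

/-- A subgroup containing the rational points and the root subgroups of a distinguished orbit is
everything. -/
theorem eq_top_of_orbit {H : Subgroup (GL D.Idx K)} (hM : ∀ g, Rat1 E g → g ∈ H)
    (hH : H ≤ E.Z.G1) (J₀ : Fin orbs.length)
    (hJ₀ : ∀ t, E.a1.Tup J₀ t → G.PX (G.oJ orbs J₀) t ∈ H)
    (W : Fin orbs.length → List ℕ)
    (hW : ∀ J, (∀ i ∈ G.oJ orbs J, Φ.ρ i = i) ∨
      chkPull T orbs J₀.val (W J) ((orbs.getD J.val []).map D.simple) = true) :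
    H = E.Z.G1 := by
  refine le_antisymm hH ?_
  have hPX : ∀ J t, E.a1.Tup J t → G.PX (G.oJ orbs J) t ∈ H := by
    intro J t ht
    rcases hW J with hJ | hJ
    · refine hM _ (E.PX_rat ht fun i hi => ?_)
      have := ht i hi
      rwa [hJ i hi, E.f_simp, eq_comm] at this
    · have hu : G.PX (G.oJ orbs J) t ∈
          G.US K {s | s ∈ (orbs.getD J.val []).map D.simple} := by
        refine G.US_mono (S := flipSet (G.full.pw (G.oJ orbs J))) (fun s hs => ?_)
          (E.a1.PX_mem_US J t)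
        rw [E.a1.flip_eq] at hs
        obtain ⟨⟨i, hi⟩, rfl⟩ := hs
        exact List.mem_map_of_mem ((mem_toFins i).mp hi)
      obtain ⟨J', hJ', L', t', ht', e⟩ := E.pull_mem hJ (E.a1.PX_mem_fix ht) hu
      obtain rfl : J' = J₀ := Fin.ext hJ'
      have hn := hM _ (E.nT_rat L')
      have h := mul_mem (mul_mem (inv_mem hn) (hJ₀ t' ht')) hn
      rw [← e] at h
      simpa only [mul_assoc, inv_mul_cancel_left, inv_mul_cancel, mul_one] using h
  refine (Subgroup.closure_le _).mpr ?_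
  rintro g ⟨J, t, ht, rfl | rfl⟩
  · exact hPX J t ht
  · rw [show t = fun i => -(fun i => -t i) i from funext fun i => (neg_neg _).symm,
      ← E.a1.n_conj_PX]
    have hn : Rat1 E (G.full.nw K (G.oJ orbs J)) := ⟨E.a1.n_mem J, G.glMap_nw φ _⟩
    exact mul_mem (mul_mem (hM _ hn) (hPX J _ (E.a1.tup_neg ht))) (inv_mem (hM _ hn))

end Env

end SubfieldTw

end CfsgLib.Chev
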