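import Cfsg.Agent.Chev.SubfieldTw.Extract
import Cfsg.Agent.Chev.SubfieldTw.Transfer
import Cfsg.Agent.Chev.SubfieldTw.Span

/-!
The rational points of a twisted group form a maximal subgroup.
-/

set_option autoImplicit false
set_option linter.unusedSectionVars false

namespace CfsgLib.Chev

open Cfsg.Lie Matrix
open scoped MatrixGroups

namespace SubfieldTw

open Tab SubfieldMax

variable {D : ChevalleyDatum} {T : Tab D} {G : T.Good} {K : Type*} [Field K] [Finite K]
  {Φ : G.Graph K} {φ : K →+* K} {m : List (ℕ × ℤ × ℕ)} {orbs : List (List ℕ)}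

/-- The certificate of a twisted type. -/
structure Cert' (T : Tab D) (m : List (ℕ × ℤ × ℕ)) (orbs : List (List ℕ)) where
  /-- the data of the radical -/
  C : Data
  /-- the words moving the chain -/
  lv : List (List ℕ)
  /-- the words between fixed roots -/
  lg : List (ℕ × List ℕ × List ℕ)
  /-- the starting fixed root -/
  start : ℕ
  /-- the stages -/
  st : List (List ℕ)
  /-- the orbit reached by the stages -/
  O : List ℕ
  /-- the words spreading it -/
  sw : List (ℕ × List ℕ × ℕ)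
  /-- the distinguished orbit -/
  J : Fin orbs.length
  /-- the word into the distinguished orbit -/
  Lp : List ℕ
  /-- the words from the other orbits into it -/
  W : Fin orbs.length → List ℕ
  checks : Checks T m orbs C lv
  longs : chkLongs T m orbs lg = true
  span : chkSpan T m orbs start st O sw = true
  pull : chkPull T orbs J.val Lp ((C.qo.getLast?.getD []).map fun e => e.1) = true

namespace Env

variable (E : Env Φ φ m orbs)
include E

/-- An overgroup of the rational points is rational or has a non-rational element in the root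
subgroup of the distinguished orbit. -/
theorem dichotomy (W : Cert' T m orbs) (hst : StepsOK G Φ φ W.C) {H : Subgroup (GL D.Idx K)}
    (hM : ∀ g, Rat1 E g → g ∈ H) (hH : H ≤ E.Z.G1) :
    (∀ g ∈ H, glMap D φ g = g) ∨
      ∀ a ∈ G.oJ orbs W.J, ∃ x ∈ E.Par H W.J a, φ x ≠ x := by
  by_cases hall : ∀ g ∈ H,
      glMap D φ (g * G.full.x (top D) 1 * g⁻¹) = g * G.full.x (top D) 1 * g⁻¹
  · refine Or.inl fun g hg => ?_
    have hk : E.CommTop (g⁻¹ * glMap D φ g) := by
      have hgG := E.g1_le_group (hH hg)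
      refine ⟨mul_mem (inv_mem hgG) (G.glMap_group φ hgG), fun a ha => ?_⟩
      have h := hall (g * a) (mul_mem hg (hM a ha))
      rw [map_mul, map_mul, map_inv, map_mul, ha.2, G.glMap_x, map_one] at h
      show _ * _ = _ * _
      calc g⁻¹ * glMap D φ g * (a * G.full.x (top D) 1 * a⁻¹)
          = g⁻¹ * (glMap D φ g * a * G.full.x (top D) 1 * (glMap D φ g * a)⁻¹) *
              glMap D φ g := by group
        _ = _ := by rw [h]; group
    exact (inv_mul_eq_one.mp (E.commTop_one W.longs W.span hk)).symm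
  simp only [not_forall] at hall
  obtain ⟨g, hg, hne⟩ := hall
  obtain ⟨q, hq, hqf, hqne, c, hc, hcf, hY⟩ :=
    E.irrational_sandwich W.C W.checks.r W.lg W.longs H hM hH hg hne
  obtain ⟨q, hq, hqf, hqne, c, hc, hcf, hY⟩ := E.move W.checks H hM hq hqf hqne hc hcf hY
  obtain ⟨u, hu, huq, -, hirr⟩ := E.extract W.checks H hM hH hq hqf hqne hc hcf hY
  obtain ⟨O, hO, w, hwH, hwf, hwne, hwS⟩ := E.last_orbit W.checks hst H hM hH hu huq hirr
  refine Or.inr fun a ha => ?_
  have hsub : w ∈ G.US K {s | s ∈ (W.C.qo.getLast?.getD []).map fun e => e.1} := by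
    refine G.US_mono (fun s hs => ?_) hwS
    obtain ⟨e, he, rfl⟩ := hs
    rw [Option.mem_def.mp hO]
    exact List.mem_map_of_mem he
  obtain ⟨J', hJ', L', t, ht, e⟩ := E.pull_mem W.pull hwf hsub
  obtain rfl : J' = W.J := Fin.ext hJ'
  have hn := E.nT_rat L'
  refine ⟨t a, ⟨t, ht, rfl, e ▸ mul_mem (mul_mem (hM _ hn) hwH) (inv_mem (hM _ hn))⟩,
    fun hta => hwne ?_⟩
  have h : glMap D φ (G.PX (G.oJ orbs W.J) t) = G.PX (G.oJ orbs W.J) t :=
    (E.PX_rat ht fun i hi => by
      rw [E.a1.tup_determined ht (E.tup_const _ hta) ha rfl i hi]; exact hta).2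
  rw [← e, map_mul, map_mul, map_inv, hn.2] at h
  exact mul_left_cancel (mul_right_cancel h)

/-- The rational points are a maximal subgroup. -/
theorem maximal (W : Cert' T m orbs) (hst : StepsOK G Φ φ W.C)
    (hW : ∀ J, (∀ i ∈ G.oJ orbs J, Φ.ρ i = i) ∨
      chkPull T orbs W.J.val (W.W J) ((orbs.getD J.val []).map D.simple) = true)
    {a : Fin D.rank} (ha : a ∈ G.oJ orbs W.J)
    (hfull : ∀ H : Subgroup (GL D.Idx K), (∀ g, Rat1 E g → g ∈ H) → H ≤ E.Z.G1 →
      ∀ x ∈ E.Par H W.J a, φ x ≠ x → ∀ y, y ∈ E.Par H W.J a)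
    {t : Fin D.rank → K} (ht : E.a1.Tup W.J t) (hta : φ (t a) ≠ t a)
    (M : Subgroup (GL D.Idx K)) (hM : ∀ g, g ∈ M ↔ g ∈ E.Z.G1 ∧ glMap D φ g = g) :
    M ≠ E.Z.G1 ∧ ∀ H : Subgroup (GL D.Idx K), M ≤ H → H ≤ E.Z.G1 → H = M ∨ H = E.Z.G1 := by
  refine ⟨fun e => hta ?_, fun H hMH hH => ?_⟩
  · have hm : G.PX (G.oJ orbs W.J) t ∈ M := by rw [e]; exact E.a1.PX_mem ht
    have h := ((hM _).mp hm).2
    rw [Good.PX, map_list_prod, List.map_map] at h
    exact E.a1.PX_inj (t := fun i => φ (t i)) (t' := t)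
      ((congrArg List.prod (List.map_congr_left fun i _ => by
        show _ = glMap D φ _
        rw [G.glMap_x])).trans h) a ha
  · have hM' : ∀ g, Rat1 E g → g ∈ H := fun g hg => hMH ((hM g).mpr hg)
    rcases E.dichotomy W hst hM' hH with hall | hpar
    · exact Or.inl (le_antisymm (fun g hg => (hM g).mpr ⟨hH hg, hall g hg⟩) hMH)
    · obtain ⟨x, hx, hxne⟩ := hpar a ha
      exact Or.inr (E.eq_top_of_orbit hM' hH W.J
        (fun s hs => E.full_of_par ha (hfull H hM' hH x hx hxne) hs) W.W hW)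

end Env

end SubfieldTw

end CfsgLib.Chev
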