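import Cfsg.Agent.Chev.SubfieldTw.Env

/-!
Conjugates of the highest root element in a twisted group, and its rational elements.
-/

set_option autoImplicit false
set_option linter.unusedSectionVars false

namespace CfsgLib.Chev

open Cfsg.Lie Matrix
open scoped MatrixGroups

namespace SubfieldTw

open Tab SubfieldMax

variable {D : ChevalleyDatum} {T : Tab D} {G : T.Good} {K : Type*} [Field K] [Finite K]
  {Φ : G.Graph K} {φ : K →+* K} {m : List (ℕ × ℤ × ℕ)} {orbs : List (List ℕ)}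

/-- The twisted group. -/
noncomputable def Env.Z (E : Env Φ φ m orbs) : Good.Twisted Φ := E.a1.twisted E.htor

/-- The rational elements of the twisted group. -/
def Rat1 (E : Env Φ φ m orbs) (g : GL D.Idx K) : Prop := g ∈ E.Z.G1 ∧ glMap D φ g = g

namespace Env

variable (E : Env Φ φ m orbs)
include E

theorem g1_le_group {g : GL D.Idx K} (hg : g ∈ E.Z.G1) : g ∈ D.group K := (E.Z.le_fix hg).1

theorem fix_pos_mem {u : GL D.Idx K} (hu : u ∈ Φ.Fix) (hp : u ∈ G.US K {r | IsPos D r}) :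
    u ∈ E.Z.G1 :=
  E.Z.U1_le ⟨hu, by rw [G.posUnipotent_eq]; exact hp⟩

theorem qs_mem {u : GL D.Idx K} (hu : u ∈ Φ.Fix) (hp : u ∈ G.US K (qs T)) : u ∈ E.Z.G1 :=
  E.fix_pos_mem hu (qs_le_pos G E.frame hp)

/-- A word of orbits as a list of elements of `Fin`. -/
theorem exists_word_fin {L : List ℕ} (hL : ∀ J ∈ L, J < orbs.length) :
    ∃ L' : List (Fin E.Z.nJ), E.Z.nT L' = G.full.nw K (L'.flatMap E.Z.word) ∧
      E.Z.pwT L' = G.full.pw (L'.flatMap E.Z.word) ∧
      (∀ s : Fin D.nroots, (E.Z.pwT L' s).val = T.wordT (flatW orbs L) s.val) := by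
  let L' : List (Fin E.Z.nJ) := toFins orbs.length L
  refine ⟨L', E.a1.word_prod L', rfl, fun s => ?_⟩
  have e : L'.map Fin.val = L := map_toFins hL
  rw [← e, E.Z.flatW_eq E.a1.hasData]
  exact G.pw_apply _ s

theorem nT_rat (L : List (Fin E.Z.nJ)) : Rat1 E (E.Z.nT L) := by
  refine ⟨E.Z.nT_mem L, ?_⟩
  rw [show E.Z.nT L = G.full.nw K (L.flatMap E.Z.word) from E.a1.word_prod L, G.glMap_nw]

theorem rat_mul {a b : GL D.Idx K} (ha : Rat1 E a) (hb : Rat1 E b) : Rat1 E (a * b) :=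
  ⟨mul_mem ha.1 hb.1, by rw [map_mul, ha.2, hb.2]⟩

theorem rat_inv {a : GL D.Idx K} (ha : Rat1 E a) : Rat1 E a⁻¹ :=
  ⟨inv_mem ha.1, by rw [map_inv, ha.2]⟩

theorem rat_one : Rat1 E (1 : GL D.Idx K) := ⟨one_mem _, map_one _⟩

theorem qs_rat {u : GL D.Idx K} (hu : u ∈ Φ.Fix) (hp : u ∈ G.US K (qs T))
    (hr : glMap D φ u = u) : Rat1 E u := ⟨E.qs_mem hu hp, hr⟩

/-- Fixed root elements with rational parameters. -/
theorem x_long_rat {r : ℕ} (hr : r < D.nroots) (h : piN m r = r) {t : K} (ht : φ t = t) :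
    Rat1 E (G.full.x r t) := by
  refine ⟨?_, by rw [G.glMap_x, ht]⟩
  by_cases hp : IsPos D r
  · exact E.fix_pos_mem (E.x_fixed hr h ht) (G.x_mem_US (S := {r | IsPos D r}) hp t)
  obtain ⟨L, -, hL⟩ := E.Z.exists_longest_red
  have hpos : IsPos D (E.Z.pwT L ⟨r, hr⟩).val := by
    by_contra hn
    have := hL (negF ⟨r, hr⟩) (G.pos_negF.mpr hp)
    rw [show E.Z.pwT L (negF ⟨r, hr⟩) = negF (E.Z.pwT L ⟨r, hr⟩) from G.negF_pw _ _,
      G.pos_negF, not_not] at this
    exact hn this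
  have h1 := mul_mem (mul_mem (E.Z.le_fix (E.Z.nT_mem L)) (E.x_fixed hr h ht))
    (inv_mem (E.Z.le_fix (E.Z.nT_mem L)))
  have h2 : E.Z.nT L * G.full.x r t * (E.Z.nT L)⁻¹ ∈ G.US K {r | IsPos D r} := by
    obtain ⟨c, hc⟩ := E.Z.nT_act L
    rw [(hc ⟨r, hr⟩).2.2.2]
    exact G.x_mem_US hpos _
  have h3 := mul_mem (mul_mem (inv_mem (E.Z.nT_mem L)) (E.fix_pos_mem h1 h2)) (E.Z.nT_mem L)
  simpa only [← mul_assoc, inv_mul_cancel, one_mul, inv_mul_cancel_right] using h3

theorem xtop_rat {t : K} (ht : φ t = t) : Rat1 E (G.full.x (top D) t) :=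
  E.x_long_rat E.frame.top_lt E.top_fix ht

/-- A conjugate of the highest root element by an element of the twisted group. -/
theorem g1_top {g : GL D.Idx K} (hg : g ∈ E.Z.G1) :
    ∃ u ∈ Φ.Fix, ∃ l : Fin D.nroots, u ∈ D.posUnipotent K ∧ piN m l.val = l.val ∧
      ∃ e : K, e ≠ 0 ∧ φ e = e ∧
        (∀ x, (g : Matrix D.Idx D.Idx K) x E.frame.hiI =
          (u : Matrix D.Idx D.Idx K) x (Sum.inr l) * e) ∧
        g * G.full.x (top D) 1 * g⁻¹ = u * G.full.x l.val e * u⁻¹ := by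
  obtain ⟨u, hu, h, hh, L, -, v, hv, rfl⟩ := E.Z.canonical hg
  have hv' : v ∈ D.posUnipotent K := (E.Z.UT_le_U1 L hv).2
  have hd := E.Z.H0_diag hh
  rw [G.full.diagonal_eq_range] at hd
  obtain ⟨c, rfl⟩ := hd
  obtain ⟨η, hη, hcol, hx⟩ := nw_col G (K := K) (L.flatMap E.Z.word) ⟨top D, E.frame.top_lt⟩
  have en : E.Z.nT L = G.full.nw K (L.flatMap E.Z.word) := E.a1.word_prod L
  set l := G.full.pw (L.flatMap E.Z.word) ⟨top D, E.frame.top_lt⟩ with hl
  have hlf : piN m l.val = l.val := by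
    have h1 := E.Z.pwT_comm L ⟨top D, E.frame.top_lt⟩
    rw [show Φ.π ⟨top D, E.frame.top_lt⟩ = ⟨top D, E.frame.top_lt⟩ from
      Fin.ext (by rw [E.hπ]; exact E.top_fix)] at h1
    rw [← E.hπ]
    exact (congrArg Fin.val h1).symm
  set e : K := (T.chi (F := K) l.val c : K) * η
  have hxl : T.hT K c * E.Z.nT L * G.full.x (top D) 1 * (T.hT K c * E.Z.nT L)⁻¹ =
      G.full.x l.val e := by
    rw [show T.hT K c * E.Z.nT L * G.full.x (top D) 1 * (T.hT K c * E.Z.nT L)⁻¹ =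
      T.hT K c * (E.Z.nT L * G.full.x (top D) 1 * (E.Z.nT L)⁻¹) * (T.hT K c)⁻¹ by group, en,
      hx, mul_one, G.full.hT_conj l.isLt]
  refine ⟨u, hu.1, l, hu.2, hlf, e,
    mul_ne_zero (Units.ne_zero _) (left_ne_zero_of_mul_eq_one hη), ?_, fun x => ?_, ?_⟩
  · refine E.param_fixed l.isLt hlf ?_
    have hn := E.Z.le_fix (mul_mem (E.Z.H0_le hh) (E.Z.nT_mem L))
    rw [← hxl]
    exact mul_mem (mul_mem hn (E.x_fixed E.frame.top_lt E.top_fix (map_one φ))) (inv_mem hn)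
  · rw [Units.val_mul, Matrix.mul_apply, Finset.sum_eq_single E.frame.hiI]
    · rw [col_hi G E.frame hv', Matrix.one_apply_eq, mul_one, Units.val_mul, Matrix.mul_apply,
        Finset.sum_eq_single (Sum.inr l)]
      · rw [G.mul_hT_apply, en, show E.frame.hiI = Sum.inr ⟨top D, E.frame.top_lt⟩ from rfl, hcol,
          if_pos rfl, T.coe_hT, Matrix.diagonal_apply_eq, Sum.elim_inr, mul_assoc]
      · intro y _ hy
        rw [en, show E.frame.hiI = Sum.inr ⟨top D, E.frame.top_lt⟩ from rfl, hcol, if_neg hy,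
          mul_zero]
      · simp
    · intro y _ hy
      rw [col_hi G E.frame hv', Matrix.one_apply_ne hy, mul_zero]
    · simp
  · have e1 := top_comm' G E.frame (u := v) (G.posUnipotent_eq (F := K) ▸ hv') 1
    rw [← hxl, show u * T.hT K c * E.Z.nT L * v * G.full.x (top D) 1 *
        (u * T.hT K c * E.Z.nT L * v)⁻¹ = u * (T.hT K c * E.Z.nT L *
          (v * G.full.x (top D) 1 * v⁻¹) * (T.hT K c * E.Z.nT L)⁻¹) * u⁻¹ by group, e1]

/-- The radical meets the centraliser of a lowest root element trivially. -/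
theorem comm_lo (C : Data) (hR : chkR T C = true) {q : GL D.Idx K} (hq : q ∈ G.US K (qs T))
    {c : K} (hc : c ≠ 0) (h : Commute q (G.full.x (negR D (top D)) c)) : q = 1 := by
  simp only [chkR, Bool.and_eq_true, Nat.blt_eq, List.all_eq_true, Nat.beq_eq, allBelow_iff,
    Bool.or_eq_true, Bool.not_eq_true'] at hR
  obtain ⟨⟨⟨hj, hlr⟩, htop⟩, hflip⟩ := hR
  set L0 := toFins D.rank C.lr
  have e0 : L0.map Fin.val = C.lr := map_toFins hlr
  have hjl := G.full.simple_lt hj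
  have hw : G.full.pw L0 ⟨D.simple C.jr, hjl⟩ = ⟨top D, E.frame.top_lt⟩ :=
    Fin.ext (by rw [G.pw_apply, e0]; exact htop)
  have hw' : G.full.pw L0 (negF ⟨D.simple C.jr, hjl⟩) = negF ⟨top D, E.frame.top_lt⟩ := by
    rw [G.negF_pw, hw]
  obtain ⟨η, hη, -, h1⟩ := nw_col G (K := K) L0 ⟨D.simple C.jr, hjl⟩
  obtain ⟨η', hη', -, h2⟩ := nw_col G (K := K) L0 (negF ⟨D.simple C.jr, hjl⟩)
  rw [hw] at h1
  rw [hw'] at h2
  set g := G.full.nw K L0
  set q' := g⁻¹ * q * g with hq'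
  set c' := η' * c
  have hc' : c' ≠ 0 := mul_ne_zero (left_ne_zero_of_mul_eq_one hη') hc
  have hcj : Commute q' (G.full.x (negR D (D.simple C.jr)) c') := by
    have h3 : G.full.x (negR D (top D)) c =
        g * G.full.x (negR D (D.simple C.jr)) c' * g⁻¹ := by
      have := h2 c'
      rw [← mul_assoc, hη', one_mul] at this
      exact this.symm
    rw [h3] at h
    have h4 := h.conj g⁻¹
    simpa [hq', mul_assoc] using h4
  have hcp : ∀ t, Commute q' (G.full.x (D.simple C.jr) t) := by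
    intro t
    have h4 := (top_comm G E.frame (qs_le_pos G E.frame hq) (η * t)).conj g⁻¹
    rw [← h1 t] at h4
    simpa [hq', mul_assoc] using h4
  have hn : Commute q' (G.full.nr (D.simple C.jr) (-c'⁻¹)) := by
    simp only [Full.nr, neg_inv, inv_inv, neg_neg]
    exact ((hcp _).mul_right hcj).mul_right (hcp _)
  rw [G.full.nr_simple_eq hj, G.full.hr_eq_hT hjl (neg_ne_zero.mpr (inv_ne_zero hc'))] at hn
  set d : Fin D.rank → Kˣ := fun i =>
    Units.mk0 (-c'⁻¹) (neg_ne_zero.mpr (inv_ne_zero hc')) ^ T.cor (D.simple C.jr) i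
  set n := g * (T.hT K d * G.full.ns K C.jr) * g⁻¹ with hn'
  have hqn : Commute q n := by
    have := hn.conj g
    rwa [show g * q' * g⁻¹ = q by rw [hq']; group] at this
  have hact : G.full.RootAct n
      (G.full.pw L0 * (1 * G.full.refl ⟨C.jr, hj⟩) * (G.full.pw L0)⁻¹) :=
    G.rootAct_mul (G.rootAct_mul (G.rootAct_nw L0) (G.rootAct_mul (G.rootAct_hT d)
      (G.rootAct_ns ⟨C.jr, hj⟩))) (G.rootAct_inv (G.nw_mem_monomial L0) (G.rootAct_nw L0))
  have hneg : n * q * n⁻¹ ∈ D.negUnipotent K := by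
    rw [G.negUnipotent_eq]
    refine G.conj_x_act hact (fun s hs => ?_) hq
    have hlt := (E.frame.closedQ.1 s hs).1
    refine ⟨hlt, Fin.isLt _, fun hp => ?_⟩
    have hval : ((G.full.pw L0 * (1 * G.full.refl ⟨C.jr, hj⟩) * (G.full.pw L0)⁻¹) ⟨s, hlt⟩).val =
        T.wordT (C.lr ++ C.jr :: C.lr.reverse) s := by
      have e1 : (G.full.pw L0)⁻¹ = G.full.pw L0.reverse :=
        Equiv.ext fun x => by
          rw [Equiv.Perm.inv_def, Equiv.symm_apply_eq]
          have h5 := pw_reverse G L0.reverse x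
          rw [List.reverse_reverse] at h5
          exact h5.symm
      rw [e1, one_mul, show G.full.refl ⟨C.jr, hj⟩ = G.full.pw [⟨C.jr, hj⟩] from
        (G.pw_singleton _).symm, ← G.pw_append, ← G.pw_append, G.pw_apply]
      simp [e0]
    have h6 : D.nroots ≤ 2 * T.wordT (C.lr ++ C.jr :: C.lr.reverse) s := hval ▸ hp
    rcases hflip s hlt with h' | h'
    · rw [show inQ T s = true from hs] at h'; simp at h'
    · rw [Nat.mul_eq] at h'; omega
  rw [← hqn.eq, mul_inv_cancel_right] at hneg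
  exact G.pos_inf_neg (G.posUnipotent_eq (F := K) ▸ qs_le_pos G E.frame hq) hneg

theorem sandwich_unique (C : Data) (hR : chkR T C = true) {q q' : GL D.Idx K}
    (hq : q ∈ G.US K (qs T)) (hq' : q' ∈ G.US K (qs T)) {c : K} (hc : c ≠ 0)
    (h : q * G.full.x (negR D (top D)) c * q⁻¹ = q' * G.full.x (negR D (top D)) c * q'⁻¹) :
    q = q' := by
  have h1 : Commute (q'⁻¹ * q) (G.full.x (negR D (top D)) c) := by
    show _ * _ = _ * _
    calc q'⁻¹ * q * G.full.x (negR D (top D)) c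
        = q'⁻¹ * (q * G.full.x (negR D (top D)) c * q⁻¹) * q := by group
      _ = _ := by rw [h]; group
  exact (inv_mul_eq_one.mp (E.comm_lo C hR (mul_mem (inv_mem hq') hq) hc h1)).symm

/-- An element of the twisted group conjugating the highest root element to a non-rational one
gives a non-rational conjugate of the lowest root group. -/
theorem irrational_sandwich (C : Data) (hR : chkR T C = true)
    (lg : List (ℕ × List ℕ × List ℕ)) (hlg : chkLongs T m orbs lg = true)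
    (H : Subgroup (GL D.Idx K)) (hM : ∀ g, Rat1 E g → g ∈ H) (hH : H ≤ E.Z.G1)
    {g : GL D.Idx K} (hg : g ∈ H)
    (hne : glMap D φ (g * G.full.x (top D) 1 * g⁻¹) ≠ g * G.full.x (top D) 1 * g⁻¹) :
    ∃ q ∈ G.US K (qs T), q ∈ Φ.Fix ∧ glMap D φ q ≠ q ∧ ∃ c : K, c ≠ 0 ∧ φ c = c ∧
      q * G.full.x (negR D (top D)) c * q⁻¹ ∈ H := by
  obtain ⟨u, huf, l, hup, hlf, e, he, hef, hcol, hx⟩ := E.g1_top (hH hg)
  simp only [chkLongs, Bool.and_eq_true, List.all_eq_true, Nat.blt_eq, allBelow_iff,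
    Bool.or_eq_true, Bool.not_eq_true', Nat.beq_eq, List.any_eq_true] at hlg
  obtain ⟨hall, hcov⟩ := hlg
  obtain ⟨⟨l', up, dn⟩, hmem, rfl⟩ := (hcov l.val l.isLt).resolve_left (by
    rw [show fixR m l.val = true from by simp [fixR, hlf]]; simp)
  obtain ⟨⟨⟨⟨-, hdn⟩, -⟩, -⟩, hdown⟩ := hall _ hmem
  obtain ⟨L', hnT, hpw, hval⟩ := E.exists_word_fin hdn
  have hnl : G.full.pw (L'.flatMap E.Z.word) l = ⟨negR D (top D), Cert.negR_lt E.frame.top_lt⟩ :=
    Fin.ext (by rw [← hpw]; exact (hval l).trans hdown)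
  obtain ⟨η, hη, hc1, hx1⟩ := nw_col G (K := K) (L'.flatMap E.Z.word) l
  set n := E.Z.nT L' with hn
  have hnH : n ∈ H := hM _ (E.nT_rat L')
  set g' := n * g with hg'
  have hg'H : g' ∈ H := mul_mem hnH hg
  have hg'G := E.g1_le_group (hH hg'H)
  have hrow : ∀ y, y ≠ Sum.inr l →
      (G.full.nw K (L'.flatMap E.Z.word) : Matrix D.Idx D.Idx K) E.frame.loI y = 0 := by
    rintro (j | s) hy
    · exact (G.mono_of_mem (G.nw_mem_monomial _)).2 j _
    · obtain ⟨η', -, hc', -⟩ := nw_col G (K := K) (L'.flatMap E.Z.word) s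
      rw [hc', if_neg]
      intro e'
      refine hy (congrArg Sum.inr ((G.full.pw (L'.flatMap E.Z.word)).injective ?_))
      rw [hnl]
      exact (Sum.inr_injective e').symm
  have hcf : E.frame.cf g' = η * e := by
    rw [Frame.cf, hg', Units.val_mul, Matrix.mul_apply, Finset.sum_eq_single (Sum.inr l), hnT,
      hc1, hnl, show E.frame.loI = Sum.inr ⟨negR D (top D), Cert.negR_lt E.frame.top_lt⟩ from rfl,
      if_pos rfl, hcol, G.grUni_pos hup _ _ le_rfl, Matrix.one_apply_eq, one_mul]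
    · intro y _ hy
      rw [hnT, hrow y hy, zero_mul]
    · simp
  have hη2 : φ η = η := by
    rcases mul_self_eq_one_iff.mp hη with e' | e' <;> simp [e']
  have hc0 : E.frame.cf g' ≠ 0 := by
    rw [hcf]; exact mul_ne_zero (left_ne_zero_of_mul_eq_one hη) he
  obtain ⟨q, hq, hconj⟩ := conj_top G E.frame hg'G hc0
  set c := E.frame.cf g' with hcdef
  have hcfix : φ c = c := by rw [hcf, map_mul, hη2, hef]
  have hY : g' * G.full.x (top D) 1 * g'⁻¹ = q * G.full.x (negR D (top D)) c * q⁻¹ := by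
    rw [hconj 1, mul_one]
  have hYH : q * G.full.x (negR D (top D)) c * q⁻¹ ∈ H := by
    rw [← hY]
    exact mul_mem (mul_mem hg'H (hM _ (E.xtop_rat (map_one φ)))) (inv_mem hg'H)
  have hlo := Cert.negR_lt (D := D) E.frame.top_lt
  have hlof : piN m (negR D (top D)) = negR D (top D) := by
    have h1 := E.hπ (negF ⟨top D, E.frame.top_lt⟩)
    rw [Φ.neg, show Φ.π ⟨top D, E.frame.top_lt⟩ = ⟨top D, E.frame.top_lt⟩ from
      Fin.ext (by rw [E.hπ]; exact E.top_fix)] at h1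
    exact h1.symm
  have hqf : q ∈ Φ.Fix := by
    have hqg := G.US_le_group _ hq
    refine ⟨hqg, (E.sandwich_unique C hR hq (E.A_qs hq) hc0 ?_).symm⟩
    have h2 := (E.Z.le_fix (hH hYH)).2
    rw [Φ.A_mul (mul_mem hqg (G.x_mem_group _ _)) (inv_mem hqg),
      Φ.A_mul hqg (G.x_mem_group _ _), Φ.A_inv hqg, E.A_x_fix hlo hlof, hcfix] at h2
    exact h2.symm
  refine ⟨q, hq, hqf, fun hσ => hne ?_, c, hc0, hcfix, hYH⟩
  have h2 : glMap D φ (g' * G.full.x (top D) 1 * g'⁻¹) = g' * G.full.x (top D) 1 * g'⁻¹ := by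
    rw [hY, map_mul, map_mul, map_inv, hσ, G.glMap_x, hcfix]
  rw [hg', show n * g * G.full.x (top D) 1 * (n * g)⁻¹ =
    n * (g * G.full.x (top D) 1 * g⁻¹) * n⁻¹ by group, map_mul, map_mul, map_inv,
    (E.nT_rat L').2] at h2
  exact mul_left_cancel (mul_right_cancel h2)

end Env

end SubfieldTw

end CfsgLib.Chev
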